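import Groth.Agent.H23.GrassFlag
import Groth.Agent.QuotFunLib.PullE
import Groth.Agent.H23.ProjBd.BcBundle

/-!
The functor of locally free quotients of a module, in terms of kernels on stalks.
-/

set_option autoImplicit false
set_option backward.isDefEq.respectTransparency false
set_option backward.isDefEq.respectTransparency.types false

universe u

open CategoryTheory CategoryTheory.Limits AlgebraicGeometry TopologicalSpace Opposite

noncomputable section

namespace Groth.Agent.H23.GrassExist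

open Groth.Agent Groth.Agent.QuotFunLib Grass

variable {X T : Scheme.{u}}

/-- The kernel of a map on the stalks. -/
def kerFam {M L : T.Modules} (t : M ⟶ L) : ∀ y : T, Submodule (T.presheaf.stalk y) (M.presheaf.stalk y) :=
  fun y => LinearMap.ker (smap t y)

theorem mem_kerFam {M L : T.Modules} (t : M ⟶ L) (y : T) (m : M.presheaf.stalk y) :
    m ∈ kerFam t y ↔ smap t y m = 0 := LinearMap.mem_ker

theorem smap_iso_injective {M N : T.Modules} (e : M ≅ N) (y : T) : Function.Injective (smap e.hom y) :=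
  fun a b h => by
    have := congrArg (smap e.inv y) h
    rwa [← smap_comp, ← smap_comp, e.hom_inv_id, smap_id, smap_id] at this

theorem kerFam_eq_of_comp_iso {M L L' : T.Modules} {t : M ⟶ L} {t' : M ⟶ L'} (e : L ≅ L') (h : t ≫ e.hom = t') :
    kerFam t' = kerFam t := by
  funext y
  ext m
  rw [mem_kerFam, mem_kerFam, ← h, smap_comp]
  exact ⟨fun h' => smap_iso_injective e y (h'.trans (map_zero _).symm), fun h' => by rw [h', map_zero]⟩

theorem exists_desc {M L L' : T.Modules} (t : M ⟶ L) [Epi t] (t' : M ⟶ L')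
    (h : ∀ (y : T) (m : M.presheaf.stalk y), smap t y m = 0 → smap t' y m = 0) : ∃ d : L ⟶ L', t ≫ d = t' := by
  have h0 : kernel.ι t ≫ t' = 0 := smap_hom_ext fun y m => by
    rw [smap_comp, smap_zero]
    refine h y _ ?_
    rw [← smap_comp, kernel.condition, smap_zero]
  exact ⟨Abelian.epiDesc t t' h0, Abelian.comp_epiDesc _ _ _⟩

theorem exists_iso_of_kerFam_eq {M L L' : T.Modules} (t : M ⟶ L) (t' : M ⟶ L') [Epi t] [Epi t']
    (h : kerFam t = kerFam t') : ∃ e : L ≅ L', t ≫ e.hom = t' := by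
  obtain ⟨d, hd⟩ := exists_desc t t' fun y m hm => (mem_kerFam t' y m).1 (h ▸ (mem_kerFam t y m).2 hm)
  obtain ⟨d', hd'⟩ := exists_desc t' t fun y m hm => (mem_kerFam t y m).1 (h.symm ▸ (mem_kerFam t' y m).2 hm)
  exact ⟨⟨d, d', by rw [← cancel_epi t, reassoc_of% hd, hd', Category.comp_id],
    by rw [← cancel_epi t', reassoc_of% hd', hd, Category.comp_id]⟩, hd⟩

section quotBC

variable {E : X.Modules} {T' : Scheme.{u}} {g : T ⟶ X} {g' : T' ⟶ X} {a : T' ⟶ T}

theorem pmAt_injective_of_bijective (M : T.Modules) {y : T'} {z : T} (hy : a y = z)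
    (hb : Function.Bijective (ringAt a y hy)) : Function.Injective (pmAt a M y hy) := fun m n h => by
  rw [← sub_eq_zero]
  have h0 : pmAt a M y hy (m - n) = 0 := by
    have := pmAt_add a hy (m - n) n
    rw [sub_add_cancel, h, right_eq_add] at this
    exact this
  rw [pmAt_eq_zero_iff a hy hb.2, (RingHom.injective_iff_ker_eq_bot _).1 hb.1, Submodule.bot_smul,
    Submodule.mem_bot] at h0
  exact h0

theorem ringAt_bijective [IsOpenImmersion a] {y : T'} {z : T} (hy : a y = z) : Function.Bijective (ringAt a y hy) := by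
  subst hy
  exact ConcreteCategory.bijective_of_isIso (a.stalkMap y)

/-- The identification of the two-step pull-back of `E`. -/
def θ (E : X.Modules) (a : T' ⟶ T) (h : a ≫ g = g') :
    (Scheme.Modules.pullback a).obj ((Scheme.Modules.pullback g).obj E) ≅ (Scheme.Modules.pullback g').obj E :=
  (Scheme.Modules.pullbackComp a g).app E ≪≫ (Scheme.Modules.pullbackCongr h).app E

theorem θ_hom_quotBC (h : a ≫ g = g') {L : T.Modules} (t : (Scheme.Modules.pullback g).obj E ⟶ L) :
    (θ E a h).hom ≫ quotBC h t = (Scheme.Modules.pullback a).map t := by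
  simp [θ, quotBC]

/-- The pull-back of a stalk element of `g^*E`. -/
def tr (h : a ≫ g = g') (y : T') {z : T} (hy : a y = z)
    (m : ((Scheme.Modules.pullback g).obj E).presheaf.stalk z) :
    ((Scheme.Modules.pullback g').obj E).presheaf.stalk y :=
  smap (θ E a h).hom y (pmAt a _ y hy m)

theorem tr_add (h : a ≫ g = g') (y : T') {z : T} (hy : a y = z)
    (m n : ((Scheme.Modules.pullback g).obj E).presheaf.stalk z) :
    tr h y hy (m + n) = tr h y hy m + tr h y hy n := by
  rw [tr, tr, tr, pmAt_add, map_add]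

theorem tr_zero (h : a ≫ g = g') (y : T') {z : T} (hy : a y = z) :
    tr (E := E) h y hy 0 = 0 := by
  rw [tr, pmAt_zero, map_zero]

theorem tr_smul (h : a ≫ g = g') (y : T') {z : T} (hy : a y = z) (r : T.presheaf.stalk z)
    (m : ((Scheme.Modules.pullback g).obj E).presheaf.stalk z) :
    tr h y hy (r • m) = ringAt a y hy r • tr h y hy m := by
  rw [tr, tr, pmAt_smul, map_smul]

theorem tr_pmAt (h : a ≫ g = g') (y : T') {z : T} {x : X} (hy : a y = z) (hz : g z = x) (hx : g' y = x)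
    (m : E.presheaf.stalk x) : tr h y hy (pmAt g E z hz m) = pmAt g' E y hx m := by
  have h'' : (a ≫ g) y = x := by rw [h]; exact hx
  rw [tr, θ, Iso.trans_hom, smap_comp]
  show smap ((Scheme.Modules.pullbackCongr h).hom.app E) y
    (smap ((Scheme.Modules.pullbackComp a g).hom.app E) y _) = _
  rw [pmAt_comp a g E y hy hz h'', pmAt_congr h E y h'' hx]

theorem tr_tr {T'' : Scheme.{u}} {g'' : T'' ⟶ X} {b : T'' ⟶ T'} {c : T'' ⟶ T} (h : a ≫ g = g')
    (hb : b ≫ g' = g'') (hc : c ≫ g = g'') (hba : b ≫ a = c) (w : T'') {y : T'} {z : T} (hw : b w = y)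
    (hy : a y = z) (hwz : c w = z) (m : ((Scheme.Modules.pullback g).obj E).presheaf.stalk z) :
    tr hb w hw (tr h y hy m) = tr hc w hwz m := by
  have hm : m ∈ Submodule.span (T.presheaf.stalk z) (Set.range (pmAt g E z rfl)) := by
    rw [span_range_pmAt]; trivial
  induction hm using Submodule.span_induction with
  | mem m hm =>
    obtain ⟨m, rfl⟩ := hm
    have h1 : g' y = g z := by rw [← h, Scheme.Hom.comp_apply, hy]
    have h2 : g'' w = g z := by rw [← hb, Scheme.Hom.comp_apply, hw, h1]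
    rw [tr_pmAt h y hy rfl h1, tr_pmAt hb w hw h1 h2, tr_pmAt hc w hwz rfl h2]
  | zero => rw [tr_zero, tr_zero, tr_zero]
  | add m n _ _ hm hn => rw [tr_add, tr_add, tr_add, hm, hn]
  | smul r m _ hm =>
    rw [tr_smul, tr_smul, tr_smul, hm, ringAt_comp b a w hw hy (by rw [Scheme.Hom.comp_apply, hw, hy]) r,
      ringAt_congr hba w _ hwz r]

theorem smap_quotBC_tr (h : a ≫ g = g') {L : T.Modules} (t : (Scheme.Modules.pullback g).obj E ⟶ L) (y : T') {z : T}
    (hy : a y = z) (m : ((Scheme.Modules.pullback g).obj E).presheaf.stalk z) :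
    smap (quotBC h t) y (tr h y hy m) = pmAt a L y hy (smap t z m) := by
  rw [tr, ← smap_comp, θ_hom_quotBC, ← pmAt_nat]

theorem smap_quotBC_pmAt (h : a ≫ g = g') {L : T.Modules} (t : (Scheme.Modules.pullback g).obj E ⟶ L) (y : T') {z : T}
    {x : X} (hy : a y = z) (hz : g z = x) (hx : g' y = x) (m : E.presheaf.stalk x) :
    smap (quotBC h t) y (pmAt g' E y hx m) = pmAt a L y hy (smap t z (pmAt g E z hz m)) := by
  rw [← tr_pmAt h y hy hz hx m, smap_quotBC_tr]

theorem pullbackCongr_refl {A B : Scheme.{u}} (f : A ⟶ B) (h : f = f) (M : B.Modules) :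
    (Scheme.Modules.pullbackCongr h).inv.app M = 𝟙 _ := by
  simp [Scheme.Modules.pullbackCongr]

theorem quotBC_id {L : T.Modules} (t : (Scheme.Modules.pullback g).obj E ⟶ L) :
    quotBC (Category.id_comp g) t ≫ (Scheme.Modules.pullbackId T).hom.app L = t := by
  have h := NatTrans.congr_app (Scheme.Modules.pseudofunctor_right_unitality g) E
  simp only [NatTrans.comp_app, Functor.whiskerLeft_app, Functor.rightUnitor_hom_app,
    eqToHom_app] at h
  erw [Category.comp_id] at h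
  have hn := (Scheme.Modules.pullbackId T).hom.naturality t
  simp only [Functor.id_map] at hn
  simp only [quotBC, Category.assoc]
  rw [hn, reassoc_of% h]
  simp [Scheme.Modules.pullbackCongr]
  exact Category.id_comp t

theorem quotBC_iso (h : a ≫ g = g') {L L' : T.Modules} {t : (Scheme.Modules.pullback g).obj E ⟶ L}
    {t' : (Scheme.Modules.pullback g).obj E ⟶ L'} (e : L ≅ L') (he : t ≫ e.hom = t') :
    quotBC h t ≫ ((Scheme.Modules.pullback a).mapIso e).hom = quotBC h t' := by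
  rw [Functor.mapIso_hom, ← GrassFlag.quotBC_comp, he]

end quotBC

/-! ## The functor -/

variable (E : X.Modules) (r : ℕ)

/-- Kernels of rank `r` locally free quotients of `g^*E`. -/
def Good (g : T ⟶ X)
    (N : ∀ y : T, Submodule (T.presheaf.stalk y) (((Scheme.Modules.pullback g).obj E).presheaf.stalk y)) : Prop :=
  ∃ (L : T.Modules) (t : (Scheme.Modules.pullback g).obj E ⟶ L),
    FlatMod.IsFinLocFreeOfRank r L ∧ Epi t ∧ kerFam t = N

/-- Points of the Grassmannian. -/
abbrev Pt (T : Scheme.{u}) : Type u :=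
  Σ g : T ⟶ X, {N : ∀ y : T, Submodule (T.presheaf.stalk y)
    (((Scheme.Modules.pullback g).obj E).presheaf.stalk y) // Good E r g N}

variable {E r}

/-- The point of a quotient. -/
def mk (g : T ⟶ X) {L : T.Modules} (t : (Scheme.Modules.pullback g).obj E ⟶ L) [Epi t]
    (hL : FlatMod.IsFinLocFreeOfRank r L) : Pt E r T :=
  ⟨g, kerFam t, L, t, hL, inferInstance, rfl⟩

theorem mk_fst (g : T ⟶ X) {L : T.Modules} (t : (Scheme.Modules.pullback g).obj E ⟶ L) [Epi t]
    (hL : FlatMod.IsFinLocFreeOfRank r L) : (mk g t hL).1 = g := rfl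

theorem exists_mk (p : Pt E r T) : ∃ (L : T.Modules) (t : (Scheme.Modules.pullback p.1).obj E ⟶ L) (_ : Epi t)
    (hL : FlatMod.IsFinLocFreeOfRank r L), p = mk p.1 t hL := by
  obtain ⟨g, N, L, t, hL, ht, rfl⟩ := p
  exact ⟨L, t, ht, hL, rfl⟩

theorem mk_eq_mk_iff (g : T ⟶ X) {L L' : T.Modules} (t : (Scheme.Modules.pullback g).obj E ⟶ L) [Epi t]
    (hL : FlatMod.IsFinLocFreeOfRank r L) (t' : (Scheme.Modules.pullback g).obj E ⟶ L') [Epi t']
    (hL' : FlatMod.IsFinLocFreeOfRank r L') : mk g t hL = mk g t' hL' ↔ ∃ e : L ≅ L', t ≫ e.hom = t' := by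
  constructor
  · intro h
    exact exists_iso_of_kerFam_eq t t' (congrArg Subtype.val (eq_of_heq (Sigma.mk.inj_iff.1 h).2))
  · rintro ⟨e, he⟩
    exact Sigma.ext rfl (heq_of_eq (Subtype.ext (kerFam_eq_of_comp_iso e he).symm))

theorem mk_congr {T' : Scheme.{u}} {g : T ⟶ X} {g₁ g₂ : T' ⟶ X} {a : T' ⟶ T} (h₁ : a ≫ g = g₁) (h₂ : a ≫ g = g₂)
    {L : T.Modules} (t : (Scheme.Modules.pullback g).obj E ⟶ L) [Epi t] (hL : FlatMod.IsFinLocFreeOfRank r L) :
    (haveI := GrassFlag.epi_quotBC h₁ t; mk g₁ (quotBC h₁ t) (GrassFlag.rank_pullback a hL)) =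
      (haveI := GrassFlag.epi_quotBC h₂ t; mk g₂ (quotBC h₂ t) (GrassFlag.rank_pullback a hL)) := by
  subst h₁ h₂
  rfl

/-- Pull-back of points. -/
def pullPt {T' : Scheme.{u}} (a : T' ⟶ T) (p : Pt E r T) : Pt E r T' :=
  haveI := (exists_mk p).choose_spec.choose_spec.choose
  haveI := GrassFlag.epi_quotBC (rfl : a ≫ p.1 = a ≫ p.1) (exists_mk p).choose_spec.choose
  mk (a ≫ p.1) (quotBC rfl (exists_mk p).choose_spec.choose)
    (GrassFlag.rank_pullback a (exists_mk p).choose_spec.choose_spec.choose_spec.choose)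

theorem pullPt_mk {T' : Scheme.{u}} (a : T' ⟶ T) (g : T ⟶ X) {g' : T' ⟶ X} (h : a ≫ g = g') {L : T.Modules}
    (t : (Scheme.Modules.pullback g).obj E ⟶ L) [Epi t] (hL : FlatMod.IsFinLocFreeOfRank r L) :
    pullPt a (mk g t hL) = (haveI := GrassFlag.epi_quotBC h t; mk g' (quotBC h t) (GrassFlag.rank_pullback a hL)) := by
  rw [← mk_congr (rfl : a ≫ g = a ≫ g) h t hL]
  have key : ∀ {L₀ : T.Modules} (t₀ : (Scheme.Modules.pullback g).obj E ⟶ L₀) (ht₀ : Epi t₀)
      (hL₀ : FlatMod.IsFinLocFreeOfRank r L₀), mk g t hL = mk g t₀ hL₀ →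
      (haveI := GrassFlag.epi_quotBC (rfl : a ≫ g = a ≫ g) t₀;
        mk (a ≫ g) (quotBC rfl t₀) (GrassFlag.rank_pullback a hL₀)) =
      (haveI := GrassFlag.epi_quotBC (rfl : a ≫ g = a ≫ g) t;
        mk (a ≫ g) (quotBC rfl t) (GrassFlag.rank_pullback a hL)) := by
    intro L₀ t₀ ht₀ hL₀ he
    haveI := GrassFlag.epi_quotBC (rfl : a ≫ g = a ≫ g) t₀
    haveI := GrassFlag.epi_quotBC (rfl : a ≫ g = a ≫ g) t
    obtain ⟨e, hte⟩ := (mk_eq_mk_iff g t hL t₀ hL₀).1 he
    exact ((mk_eq_mk_iff _ _ _ _ _).2 ⟨_, quotBC_iso rfl e hte⟩).symm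
  exact key _ _ _ (exists_mk (mk g t hL)).choose_spec.choose_spec.choose_spec.choose_spec

theorem pullPt_id (p : Pt E r T) : pullPt (𝟙 T) p = p := by
  obtain ⟨g, N, L, t, hL, ht, rfl⟩ := p
  show pullPt (𝟙 T) (mk g t hL) = mk g t hL
  rw [pullPt_mk (𝟙 T) g (Category.id_comp g) t hL]
  haveI := GrassFlag.epi_quotBC (Category.id_comp g) t
  exact (mk_eq_mk_iff g _ _ _ _).2 ⟨(Scheme.Modules.pullbackId T).app L, quotBC_id t⟩

theorem pullPt_pullPt {T' T'' : Scheme.{u}} (b : T'' ⟶ T') (a : T' ⟶ T) (p : Pt E r T) :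
    pullPt b (pullPt a p) = pullPt (b ≫ a) p := by
  obtain ⟨g, N, L, t, hL, ht, rfl⟩ := p
  show pullPt b (pullPt a (mk g t hL)) = pullPt (b ≫ a) (mk g t hL)
  haveI := GrassFlag.epi_quotBC (rfl : a ≫ g = a ≫ g) t
  rw [pullPt_mk a g rfl t hL, pullPt_mk b (a ≫ g) rfl _ _,
    pullPt_mk (b ≫ a) g (Category.assoc b a g) t hL]
  haveI := GrassFlag.epi_quotBC (rfl : b ≫ a ≫ g = b ≫ a ≫ g) (quotBC (rfl : a ≫ g = a ≫ g) t)
  haveI := GrassFlag.epi_quotBC (Category.assoc b a g) t
  haveI : IsIso (quotBC (rfl : b ≫ a = b ≫ a) (𝟙 ((Scheme.Modules.pullback a).obj L))) := ProjBd.isIso_quotBC_id _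
  refine ((mk_eq_mk_iff _ _ _ _ _).2 ⟨asIso (quotBC (rfl : b ≫ a = b ≫ a) (𝟙 ((Scheme.Modules.pullback a).obj L))), ?_⟩).symm
  show _ ≫ quotBC (rfl : b ≫ a = b ≫ a) (𝟙 ((Scheme.Modules.pullback a).obj L)) = _
  rw [GrassFlag.quotBC_quotBC (rfl : a ≫ g = a ≫ g) (rfl : b ≫ a = b ≫ a) (Category.assoc b a g) rfl t (𝟙 _),
    Category.comp_id]

variable (E r) in
/-- The Grassmannian functor. -/
def pre : Scheme.{u}ᵒᵖ ⥤ Type u where
  obj T := Pt E r T.unop
  map a := ↾fun p => pullPt a.unop p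
  map_id T := ConcreteCategory.hom_ext _ _ fun p => pullPt_id p
  map_comp a b := ConcreteCategory.hom_ext _ _ fun p => (pullPt_pullPt b.unop a.unop p).symm

theorem pre_map {T' : Scheme.{u}} (a : T' ⟶ T) (p : Pt E r T) : (pre E r).map a.op p = pullPt a p := rfl

end Groth.Agent.H23.GrassExist
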