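import Groth.Agent.H23.GrassExist.Basic
import Groth.Agent.H23.ModZero
import Groth.Agent.H23.UnitSec
import Groth.Agent.QCoh.PullbackBC
import Groth.Agent.S9824

/-!
The chart of the Grassmannian where given sections over an affine open form a basis of the quotient.
-/

set_option autoImplicit false
set_option backward.isDefEq.respectTransparency false
set_option backward.isDefEq.respectTransparency.types false
set_option linter.style.haveILetI false
set_option linter.unusedSectionVars false

universe u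

open CategoryTheory CategoryTheory.Limits AlgebraicGeometry TopologicalSpace Opposite MvPolynomial

noncomputable section

namespace Groth.Agent.H23.GrassExist

open Groth.Agent Groth.Agent.QuotFunLib Grass

variable {X T : Scheme.{u}} {E : X.Modules} {r : ℕ}

theorem germ_germ_res {M : T.Modules} {V W : T.Opens} (i : W ⟶ V) (y : T) (hy : y ∈ W) (s : Γ(M, V)) :
    M.presheaf.germ W y hy (M.presheaf.map i.op s) = M.presheaf.germ V y (i.le hy) s :=
  M.presheaf.germ_res_apply i y hy s

/-- The standard frame of the free module. -/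
def stdGerm (T : Scheme.{u}) (r : ℕ) (l : Fin r) (y : T) : (FlatMod.freeMod T r).presheaf.stalk y :=
  (FlatMod.freeMod T r).presheaf.germ ⊤ y trivial ((Frame.incl T r l).app ⊤ (Frame.one ⊤))

/-- The standard basis of a stalk of the free module. -/
def stdBasis (T : Scheme.{u}) (r : ℕ) (y : T) :
    Module.Basis (Fin r) (T.presheaf.stalk y) ((FlatMod.freeMod T r).presheaf.stalk y) :=
  Module.Basis.mk (ModZero.linearIndependent_germ Frame.incl_isFrame (U := ⊤) trivial)
    (ModZero.span_germ_frame Frame.incl_isFrame (U := ⊤) trivial)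

theorem stdBasis_apply (T : Scheme.{u}) (r : ℕ) (y : T) (l : Fin r) : stdBasis T r y l = stdGerm T r l y :=
  Module.Basis.mk_apply _ _ _

/-- The composite giving the value of a map out of `g^*E` on an element of a stalk of `E`. -/
def vm {g : T ⟶ X} {L : T.Modules} (t : (Scheme.Modules.pullback g).obj E ⟶ L) {U : X.Opens} (z : T) (hz : g z ∈ U)
    (m : Γ(E, U)) : L.presheaf.stalk z :=
  smap t z (pmAt g E z rfl (E.presheaf.germ U (g z) hz m))

theorem vm_eq_germ {g : T ⟶ X} {L : T.Modules} (t : (Scheme.Modules.pullback g).obj E ⟶ L) {U : X.Opens} (z : T)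
    (hz : g z ∈ U) (m : Γ(E, U)) :
    vm t z hz m = L.presheaf.germ (g ⁻¹ᵁ U) z hz
      (t.app (g ⁻¹ᵁ U) (((Scheme.Modules.pullbackPushforwardAdjunction g).unit.app E).app U m)) := by
  rw [vm]
  show smap t z (pm g E z _) = _
  rw [pm_germ g U hz, smap_germ]

theorem vm_comp {g : T ⟶ X} {L L' : T.Modules} (t : (Scheme.Modules.pullback g).obj E ⟶ L) (e : L ⟶ L')
    {U : X.Opens} (z : T) (hz : g z ∈ U) (m : Γ(E, U)) : vm (t ≫ e) z hz m = smap e z (vm t z hz m) :=
  smap_comp t e z _

theorem vm_quotBC {T' : Scheme.{u}} {a : T' ⟶ T} {g : T ⟶ X} {g' : T' ⟶ X} (h : a ≫ g = g') {L : T.Modules}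
    (t : (Scheme.Modules.pullback g).obj E ⟶ L) {U : X.Opens} (y : T') {z : T} (hy : a y = z)
    (hy' : g' y ∈ U) (hz : g z ∈ U) (m : Γ(E, U)) :
    vm (quotBC h t) y hy' m = pmAt a L y hy (vm t z hz m) := by
  have hx : g' y = g z := by rw [← h, Scheme.Hom.comp_apply, hy]
  have key : ∀ (x : X) (e : g' y = x) (hxU : x ∈ U),
      vm (quotBC h t) y hy' m = smap (quotBC h t) y (pmAt g' E y e (E.presheaf.germ U x hxU m)) := by
    rintro x rfl hxU; rfl
  rw [key _ hx hz, smap_quotBC_pmAt h t y hy rfl hx]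
  rfl

/-- Two maps out of `g^*E` agree if they agree on the sections over an affine open containing the image. -/
theorem hom_ext_vm (hE : Coh.IsQCoh E) {g : T ⟶ X} {L : T.Modules} {t t' : (Scheme.Modules.pullback g).obj E ⟶ L}
    {U : X.Opens} (hU : IsAffineOpen U) (hg : ∀ z, g z ∈ U)
    (h : ∀ (z : T) (m : Γ(E, U)), vm t z (hg z) m = vm t' z (hg z) m) : t = t' := by
  refine smap_hom_ext fun z n => ?_
  refine congr($(LinearMap.ext_on (span_range_pmAt g E z rfl) (f := smap t z) (g := smap t' z) ?_) n)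
  rintro _ ⟨e, rfl⟩
  letI := QCoh.stalkModule E (hg z)
  haveI := QCoh.isLocalizedModule_germLin hE hU (hg z)
  obtain ⟨⟨m, s⟩, hms⟩ := IsLocalizedModule.surj (hU.primeIdealOf ⟨g z, hg z⟩).asIdeal.primeCompl
    (QCoh.germLin E (hg z)) e
  have hs : IsUnit (X.presheaf.germ U (g z) (hg z) (s : Γ(X, U))) :=
    (X.mem_basicOpen _ (g z) (hg z)).1 ((QCoh.mem_basicOpen_iff_notMem hU (hg z) _).2 s.2)
  have h1 : X.presheaf.germ U (g z) (hg z) (s : Γ(X, U)) • e = E.presheaf.germ U (g z) (hg z) m := hms
  have h2 : smap t z (pmAt g E z rfl (X.presheaf.germ U (g z) (hg z) (s : Γ(X, U)) • e)) =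
      smap t' z (pmAt g E z rfl (X.presheaf.germ U (g z) (hg z) (s : Γ(X, U)) • e)) := by
    rw [h1]; exact h z m
  rw [pmAt_smul, map_smul, map_smul] at h2
  exact ((hs.map (ringAt g z rfl)).smul_left_cancel).1 h2

section InW

variable (U : X.Opens) (s : Fin r → Γ(E, U))

/-- The given sections form a basis of the quotient at a point. -/
def InW (g : T ⟶ X) {L : T.Modules} (t : (Scheme.Modules.pullback g).obj E ⟶ L) (z : T) : Prop :=
  ∃ hz : g z ∈ U, Submodule.span (T.presheaf.stalk z) (Set.range fun k => vm t z hz (s k)) = ⊤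

theorem span_eq_top_iff_det {R M : Type u} [CommRing R] [AddCommGroup M] [Module R M]
    (b : Module.Basis (Fin r) R M) (v : Fin r → M) : Submodule.span R (Set.range v) = ⊤ ↔ IsUnit (b.det v) := by
  rw [← b.is_basis_iff_det]
  refine ⟨fun h => ⟨?_, h⟩, fun h => h.2⟩
  rcases subsingleton_or_nontrivial R with hR | hR
  · exact Fintype.linearIndependent_iff.2 fun c _ i => Subsingleton.elim _ _
  let ψ : (Fin r → R) →ₗ[R] (Fin r → R) := b.equivFun.toLinearMap.comp (Fintype.linearCombination R v)
  have hs : Function.Surjective ψ := b.equivFun.surjective.comp (by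
    rw [← LinearMap.range_eq_top, Fintype.range_linearCombination, h])
  have hi := OrzechProperty.injective_of_surjective_endomorphism ψ hs
  rw [Fintype.linearIndependent_iff]
  intro c hc
  have : ψ c = ψ 0 := by
    show b.equivFun (Fintype.linearCombination R v c) = b.equivFun (Fintype.linearCombination R v 0)
    rw [Fintype.linearCombination_apply, hc, map_zero, map_zero, map_zero]
  exact congrFun (hi this)

variable {U s}

theorem InW.iso {g : T ⟶ X} {L L' : T.Modules} {t : (Scheme.Modules.pullback g).obj E ⟶ L}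
    {t' : (Scheme.Modules.pullback g).obj E ⟶ L'} (e : L ≅ L') (he : t ≫ e.hom = t') {z : T}
    (h : InW U s g t z) : InW U s g t' z := by
  obtain ⟨hz, hsp⟩ := h
  refine ⟨hz, ?_⟩
  have hsurj : Function.Surjective (smap e.hom z) := fun x => ⟨smap e.inv z x, by
    rw [← smap_comp, e.inv_hom_id, smap_id]⟩
  have := congrArg (Submodule.map (smap e.hom z)) hsp
  rw [Submodule.map_span, Submodule.map_top, LinearMap.range_eq_top.2 hsurj, ← Set.range_comp] at this
  subst he
  exact (congrArg (fun w => Submodule.span _ (Set.range w)) (funext fun k => vm_comp t e.hom z hz (s k))).trans this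

theorem inW_quotBC_iff {T' : Scheme.{u}} {a : T' ⟶ T} {g : T ⟶ X} {g' : T' ⟶ X} (h : a ≫ g = g') {L : T.Modules}
    (hL : FlatMod.IsFinLocFreeOfRank r L) (t : (Scheme.Modules.pullback g).obj E ⟶ L) (y : T') :
    InW U s g' (quotBC h t) y ↔ InW U s g t (a y) := by
  have hz : g' y = g (a y) := by rw [← h]; rfl
  obtain ⟨b⟩ := CurveTensor.exists_basis_stalk hL (a y)
  obtain ⟨b', hb'⟩ : ∃ b' : Module.Basis (Fin r) (T'.presheaf.stalk y)
      (((Scheme.Modules.pullback a).obj L).presheaf.stalk y), ∀ l, b' l = pm a L y (b l) := by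
    algebraize [(a.stalkMap y).hom]
    exact ⟨(b.baseChange (T'.presheaf.stalk y)).map ((KFlatLib.stalkPullbackIso a y).app L).toLinearEquiv.symm,
      fun l => by rw [Module.Basis.map_apply, Module.Basis.baseChange_apply]; rfl⟩
  have hrep : ∀ q l, b'.repr (pm a L y q) l = (a.stalkMap y).hom (b.repr q l) := fun q l => by
    have : pm a L y q = ∑ i, (a.stalkMap y).hom (b.repr q i) • b' i := by
      conv_lhs => rw [← b.sum_repr q, pm_sum]
      exact Finset.sum_congr rfl fun i _ => by rw [pm_smul, hb']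
    rw [this, Module.Basis.repr_sum_self]
  have hdet : ∀ v : Fin r → L.presheaf.stalk (a y),
      b'.det (fun k => pm a L y (v k)) = (a.stalkMap y).hom (b.det v) := fun v => by
    rw [Module.Basis.det_apply, Module.Basis.det_apply, RingHom.map_det]
    refine congrArg Matrix.det ?_
    ext i j
    exact hrep (v j) i
  constructor
  · rintro ⟨hy', hsp⟩
    refine ⟨hz ▸ hy', (span_eq_top_iff_det b _).2 ?_⟩
    rw [show (fun k => vm (quotBC h t) y hy' (s k)) = fun k => pm a L y (vm t (a y) (hz ▸ hy') (s k)) from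
      funext fun k => vm_quotBC h t y rfl hy' (hz ▸ hy') (s k), span_eq_top_iff_det b', hdet] at hsp
    exact isUnit_of_map_unit (a.stalkMap y).hom _ hsp
  · rintro ⟨hz', hsp⟩
    refine ⟨hz.symm ▸ hz', ?_⟩
    rw [show (fun k => vm (quotBC h t) y (hz.symm ▸ hz') (s k)) = fun k => pm a L y (vm t (a y) hz' (s k)) from
      funext fun k => vm_quotBC h t y rfl (hz.symm ▸ hz') hz' (s k), span_eq_top_iff_det b', hdet]
    exact ((span_eq_top_iff_det b _).1 hsp).map _

theorem isOpen_inW {g : T ⟶ X} {L : T.Modules} (hL : FlatMod.IsFinLocFreeOfRank r L)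
    (t : (Scheme.Modules.pullback g).obj E ⟶ L) : IsOpen {z | InW U s g t z} := by
  classical
  rw [isOpen_iff_forall_mem_open]
  rintro z ⟨hz, hsp⟩
  obtain ⟨V, hzV, ⟨eV⟩⟩ := hL z
  obtain ⟨b, hb⟩ := Frame.exists_frame eV
  let τ : Fin r → Γ(L, g ⁻¹ᵁ U) := fun k =>
    t.app (g ⁻¹ᵁ U) (((Scheme.Modules.pullbackPushforwardAdjunction g).unit.app E).app U (s k))
  let O : T.Opens := V ⊓ g ⁻¹ᵁ U
  choose c hc using fun k => (hb O inf_le_left).2 (L.presheaf.map (homOfLE inf_le_right).op (τ k))
  let C : Matrix (Fin r) (Fin r) Γ(T, O) := Matrix.of fun i j => c j i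
  have hdet : ∀ (y : T) (hy : y ∈ O),
      (Submodule.span (T.presheaf.stalk y) (Set.range fun k => vm t y hy.2 (s k)) = ⊤ ↔
        IsUnit (T.presheaf.germ O y hy C.det)) := by
    intro y hy
    let β := Module.Basis.mk (ModZero.linearIndependent_germ hb hy.1) (ModZero.span_germ_frame hb hy.1)
    have hv : ∀ k, vm t y hy.2 (s k) = ∑ i, T.presheaf.germ O y hy (c k i) • β i := fun k => by
      rw [vm_eq_germ]
      refine Eq.trans ?_ (Eq.trans (congrArg (L.presheaf.germ O y hy) (hc k).symm) ?_)
      · exact (germ_germ_res (homOfLE inf_le_right) y hy (τ k)).symm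
      · rw [Frame.comb, map_sum]
        refine Finset.sum_congr rfl fun i _ => ?_
        erw [QCoh.germ_smul', L.presheaf.germ_res_apply]
        rw [Module.Basis.mk_apply]
    rw [span_eq_top_iff_det β, Module.Basis.det_apply, RingHom.map_det]
    refine iff_of_eq (congrArg (fun M : Matrix _ _ _ => IsUnit M.det) ?_)
    ext i j
    rw [Module.Basis.toMatrix_apply, hv, Module.Basis.repr_sum_self]
    rfl
  refine ⟨(T.basicOpen C.det : Set T), fun y hy => ?_, (T.basicOpen C.det).2, ?_⟩
  · have hyO : y ∈ O := T.basicOpen_le _ hy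
    show InW U s g t y
    exact ⟨hyO.2, (hdet y hyO).2 ((T.mem_basicOpen _ y hyO).1 hy)⟩
  · exact (T.mem_basicOpen _ z (show z ∈ O from ⟨hzV, hz⟩)).2 ((hdet z ⟨hzV, hz⟩).1 hsp)

/-- A quotient in the chart is equivalent to one onto the free module sending the sections to its basis. -/
theorem exists_normal {g : T ⟶ X} {L : T.Modules} (hL : FlatMod.IsFinLocFreeOfRank r L)
    (t : (Scheme.Modules.pullback g).obj E ⟶ L) (hW : ∀ z, InW U s g t z) :
    ∃ e : L ≅ FlatMod.freeMod T r, ∀ (z : T) (k : Fin r),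
      vm (t ≫ e.hom) z (hW z).fst (s k) = stdGerm T r k z := by
  classical
  have hUT : (⊤ : T.Opens) ≤ g ⁻¹ᵁ U := fun z _ => (hW z).fst
  let d : FlatMod.freeMod T r ⟶ L := Sigma.desc fun k => QCoh.homOfTop (P := L)
    (L.presheaf.map (homOfLE hUT).op
      (t.app (g ⁻¹ᵁ U) (((Scheme.Modules.pullbackPushforwardAdjunction g).unit.app E).app U (s k))))
  have hd : ∀ (z : T) (k : Fin r), smap d z (stdGerm T r k z) = vm t z (hW z).fst (s k) := fun z k => by
    rw [stdGerm, smap_germ, vm_eq_germ]
    show L.presheaf.germ ⊤ z trivial ((Frame.incl T r k ≫ d).app ⊤ (Frame.one ⊤)) = _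
    rw [show Frame.incl T r k ≫ d = QCoh.homOfTop _ from Sigma.ι_desc _ _]
    refine (congrArg (L.presheaf.germ ⊤ z trivial) (QCoh.homOfTop_app _ _)).trans ?_
    refine (QCoh.germ_smul' L (show z ∈ (⊤ : T.Opens) from trivial) _ _).trans ?_
    erw [map_one, one_smul, L.presheaf.germ_res_apply, L.presheaf.germ_res_apply]
  have hsurj : ∀ z, Function.Surjective (smap d z) := fun z => by
    rw [← LinearMap.range_eq_top, eq_top_iff, ← (hW z).snd, Submodule.span_le]
    rintro _ ⟨k, rfl⟩
    exact ⟨_, hd z k⟩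
  have hinj : ∀ z, Function.Injective (smap d z) := fun z => by
    obtain ⟨b⟩ := CurveTensor.exists_basis_stalk hL z
    let ψ : (Fin r → T.presheaf.stalk z) →ₗ[T.presheaf.stalk z] (Fin r → T.presheaf.stalk z) :=
      b.equivFun.toLinearMap.comp ((smap d z).comp (stdBasis T r z).equivFun.symm.toLinearMap)
    have hi := OrzechProperty.injective_of_surjective_endomorphism ψ
      (b.equivFun.surjective.comp ((hsurj z).comp (stdBasis T r z).equivFun.symm.surjective))
    intro x y hxy
    refine (stdBasis T r z).equivFun.injective (hi ?_)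
    show b.equivFun (smap d z ((stdBasis T r z).equivFun.symm _)) = b.equivFun (smap d z ((stdBasis T r z).equivFun.symm _))
    rw [LinearEquiv.symm_apply_apply, LinearEquiv.symm_apply_apply, hxy]
  haveI : Epi d := epi_of_smap_surjective d hsurj
  haveI : Mono d := ⟨fun a b h => smap_hom_ext fun z m => hinj z (by rw [← smap_comp, ← smap_comp, h])⟩
  haveI : IsIso d := isIso_of_mono_of_epi d
  refine ⟨(asIso d).symm, fun z k => ?_⟩
  rw [vm_comp, ← hd z k]
  show smap (inv d) z (smap d z _) = _
  rw [← smap_comp, IsIso.hom_inv_id, smap_id]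

end InW

section Coef

variable {U : X.Opens} {g : T ⟶ X} (hg : ∀ z, g z ∈ U)
  (t : (Scheme.Modules.pullback g).obj E ⟶ FlatMod.freeMod T r)

/-- The coordinates of the image of a section. -/
def coef (m : Γ(E, U)) (l : Fin r) : Γ(T, ⊤) :=
  (Frame.proj T r l).app ⊤ ((FlatMod.freeMod T r).presheaf.map (homOfLE fun z _ => hg z : (⊤ : T.Opens) ⟶ g ⁻¹ᵁ U).op
    (t.app (g ⁻¹ᵁ U) (((Scheme.Modules.pullbackPushforwardAdjunction g).unit.app E).app U m)))

theorem vm_eq_sum (z : T) (m : Γ(E, U)) :
    vm t z (hg z) m = ∑ l, T.presheaf.germ ⊤ z trivial (coef hg t m l) • stdGerm T r l z := by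
  rw [vm_eq_germ]
  let hle : (⊤ : T.Opens) ⟶ g ⁻¹ᵁ U := homOfLE fun z _ => hg z
  let v := (FlatMod.freeMod T r).presheaf.map hle.op
    (t.app (g ⁻¹ᵁ U) (((Scheme.Modules.pullbackPushforwardAdjunction g).unit.app E).app U m))
  refine Eq.trans (germ_germ_res hle z trivial _).symm ?_
  refine Eq.trans (congrArg ((FlatMod.freeMod T r).presheaf.germ ⊤ z trivial) (Frame.free_eq_sum ⊤ v).symm) ?_
  rw [map_sum]
  refine Finset.sum_congr rfl fun l _ => ?_
  exact QCoh.germ_smul' _ _ _ _

theorem coef_unique (z : T) (m : Γ(E, U)) (c : Fin r → T.presheaf.stalk z)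
    (h : vm t z (hg z) m = ∑ l, c l • stdGerm T r l z) (l : Fin r) :
    T.presheaf.germ ⊤ z trivial (coef hg t m l) = c l := by
  rw [vm_eq_sum hg t z m] at h
  simp only [← stdBasis_apply] at h
  have := congrArg (fun x => (stdBasis T r z).repr x l) h
  simpa only [Module.Basis.repr_sum_self] using this

end Coef

end Groth.Agent.H23.GrassExist
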