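import Groth.Agent.H23.GrassExist.Sheaf
import Groth.Agent.H23.GrassExist.Chart

/-!
Existence of Grassmannians of quasi-coherent modules.
-/

set_option autoImplicit false
set_option backward.isDefEq.respectTransparency false
set_option backward.isDefEq.respectTransparency.types false
set_option linter.style.haveILetI false
set_option linter.unusedSectionVars false

universe u

open CategoryTheory CategoryTheory.Limits AlgebraicGeometry TopologicalSpace Opposite MvPolynomial

noncomputable section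

namespace Groth.Agent.H23.GrassExist

open Groth.Agent Groth.Agent.QuotFunLib Grass

variable {X T : Scheme.{u}} (E : X.Modules) {r : ℕ}

section Alg

variable (U : X.Opens) (s : Fin r → Γ(E, U))

/-- The relations of the chart. -/
def chartRel : Set (MvPolynomial (Γ(E, U) × Fin r) Γ(X, U)) :=
  (Set.range fun p : Γ(E, U) × Γ(E, U) × Fin r => MvPolynomial.X (p.1 + p.2.1, p.2.2) - MvPolynomial.X (p.1, p.2.2) - MvPolynomial.X (p.2.1, p.2.2)) ∪
  (Set.range fun p : Γ(X, U) × Γ(E, U) × Fin r => MvPolynomial.X (p.1 • p.2.1, p.2.2) - C p.1 * MvPolynomial.X (p.2.1, p.2.2)) ∪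
  (Set.range fun p : Fin r × Fin r => MvPolynomial.X (s p.1, p.2) - if p.1 = p.2 then 1 else 0)

/-- The ring of the chart. -/
def chartRing : CommRingCat.{u} :=
  CommRingCat.of (MvPolynomial (Γ(E, U) × Fin r) Γ(X, U) ⧸ Ideal.span (chartRel E U s))

/-- The structure map. -/
def chartC : Γ(X, U) ⟶ chartRing E U s := CommRingCat.ofHom ((Ideal.Quotient.mk _).comp C)

/-- The coordinates. -/
def psi (m : Γ(E, U)) (l : Fin r) : chartRing E U s := Ideal.Quotient.mk _ (MvPolynomial.X (m, l))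

theorem psi_add (m m' : Γ(E, U)) (l : Fin r) : psi E U s (m + m') l = psi E U s m l + psi E U s m' l := by
  refine (Ideal.Quotient.eq (I := Ideal.span (chartRel E U s))).2 ?_
  rw [← sub_sub]
  exact Ideal.subset_span (Or.inl (Or.inl ⟨(m, m', l), rfl⟩))

theorem psi_smul (a : Γ(X, U)) (m : Γ(E, U)) (l : Fin r) :
    psi E U s (a • m) l = chartC E U s a * psi E U s m l :=
  (Ideal.Quotient.eq (I := Ideal.span (chartRel E U s))).2 (Ideal.subset_span (Or.inl (Or.inr ⟨(a, m, l), rfl⟩)))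

theorem psi_delta (k l : Fin r) : psi E U s (s k) l = if k = l then 1 else 0 := by
  have hm : (MvPolynomial.X (s k, l) - (if k = l then 1 else 0) : MvPolynomial (Γ(E, U) × Fin r) Γ(X, U)) ∈
      chartRel E U s := Or.inr ⟨(k, l), rfl⟩
  have h := (Ideal.Quotient.eq (I := Ideal.span (chartRel E U s))).2 (Ideal.subset_span hm)
  refine h.trans ?_
  split_ifs <;> rfl

theorem exists_desc_chart {C' : CommRingCat.{u}} (f : Γ(X, U) ⟶ C') (v : Γ(E, U) → Fin r → C')
    (hadd : ∀ m m' l, v (m + m') l = v m l + v m' l) (hsmul : ∀ a m l, v (a • m) l = f a * v m l)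
    (hdelta : ∀ k l, v (s k) l = if k = l then 1 else 0) :
    ∃ φ : chartRing E U s ⟶ C', chartC E U s ≫ φ = f ∧ ∀ m l, φ (psi E U s m l) = v m l := by
  let ev : MvPolynomial (Γ(E, U) × Fin r) Γ(X, U) →+* C' := eval₂Hom f.hom fun p => v p.1 p.2
  have h : Ideal.span (chartRel E U s) ≤ RingHom.ker ev := Ideal.span_le.2 (by
    rintro _ ((⟨⟨m, m', l⟩, rfl⟩ | ⟨⟨a, m, l⟩, rfl⟩) | ⟨⟨k, l⟩, rfl⟩)
    · simp only [SetLike.mem_coe, RingHom.mem_ker, map_sub, ev, eval₂Hom_X', hadd]; ring
    · simp only [SetLike.mem_coe, RingHom.mem_ker, map_sub, map_mul, ev, eval₂Hom_X', eval₂Hom_C, hsmul, sub_self]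
    · simp only [SetLike.mem_coe, RingHom.mem_ker, map_sub, ev, eval₂Hom_X', hdelta]
      split_ifs <;> simp)
  refine ⟨CommRingCat.ofHom (Ideal.Quotient.lift _ ev h), ?_, fun m l => ?_⟩
  · ext a
    exact eval₂Hom_C _ _ a
  · exact eval₂Hom_X' _ _ _

theorem chart_hom_ext {C' : CommRingCat.{u}} {φ φ' : chartRing E U s ⟶ C'}
    (h1 : chartC E U s ≫ φ = chartC E U s ≫ φ') (h2 : ∀ m l, φ (psi E U s m l) = φ' (psi E U s m l)) : φ = φ' := by
  refine CommRingCat.hom_ext (Ideal.Quotient.ringHom_ext (MvPolynomial.ringHom_ext (fun a => ?_) fun p => h2 p.1 p.2))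
  exact congr($h1 a)

variable (hU : IsAffineOpen U)

/-- The structure morphism of the chart. -/
def chartQ : Spec (chartRing E U s) ⟶ X := Spec.map (chartC E U s) ≫ hU.fromSpec

theorem chartQ_mem (y : Spec (chartRing E U s)) : chartQ E U s hU y ∈ U := by
  have : hU.fromSpec (Spec.map (chartC E U s) y) ∈ Set.range hU.fromSpec := ⟨_, rfl⟩
  rw [hU.range_fromSpec] at this
  exact this

/-- The section of the structure sheaf of the chart attached to a coordinate. -/
def psiSec (m : Γ(E, U)) (l : Fin r) : Γ(Spec (chartRing E U s), ⊤) :=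
  (Scheme.ΓSpecIso (chartRing E U s)).inv (psi E U s m l)

theorem exists_univ_quot (hE : Coh.IsQCoh E) :
    ∃ t : (Scheme.Modules.pullback (chartQ E U s hU)).obj E ⟶ FlatMod.freeMod (Spec (chartRing E U s)) r,
      ∀ (y : Spec (chartRing E U s)) (m : Γ(E, U)),
        vm t y (chartQ_mem E U s hU y) m =
          ∑ l, (Spec (chartRing E U s)).presheaf.germ ⊤ y trivial (psiSec E U s m l) • stdGerm _ r l y := by
  let H := Spec (chartRing E U s)
  let b := Spec.map (chartC E U s)
  let j := hU.fromSpec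
  have hρ : ∀ l : Fin r, ∃ ρ : (Scheme.Modules.pullback (chartQ E U s hU)).obj E ⟶ Coh.structureModule H,
      ∀ (y : H) (m : Γ(E, U)), vm ρ y (chartQ_mem E U s hU y) m =
        H.presheaf.germ ⊤ y trivial (psiSec E U s m l) • UnitSec.one y := by
    intro l
    let e := LinearEquiv.ofBijective
      ({ toFun := QCoh.toChart hU E, map_add' := QCoh.toChart_add hU E, map_smul' := QCoh.toChart_smul hU E } :
        Γ(E, U) →ₗ[Γ(X, U)] moduleSpecΓFunctor.obj (E.restrict hU.fromSpec)) (QCoh.bijective_toChart hU E)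
    let P := (Scheme.Modules.pushforward b).obj (Coh.structureModule H)
    let L₀ : Γ(E, U) →ₗ[Γ(X, U)] moduleSpecΓFunctor.obj P :=
      { toFun := fun m => (show Γ(P, ⊤) from psiSec E U s m l)
        map_add' := fun m m' => by
          show psiSec E U s (m + m') l = psiSec E U s m l + psiSec E U s m' l
          rw [psiSec, psi_add, map_add]; rfl
        map_smul' := fun a m => by
          show psiSec E U s (a • m) l =
            (show Γ(H, ⊤) from b.app ⊤ ((Spec Γ(X, U)).presheaf.map (𝟙 _) ((Scheme.ΓSpecIso Γ(X, U)).inv a))) *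
              psiSec E U s m l
          rw [CategoryTheory.Functor.map_id, psiSec, psi_smul, map_mul]
          exact congrArg (· * _) (QCoh.spec_appTop_scalar (chartC E U s) a).symm }
    obtain ⟨Φ, hΦ⟩ := (QCoh.bijective_ΓMap (QCoh.isQCoh_restrict hU.fromSpec hE) P).2
      (@ModuleCat.ofHom _ _ (moduleSpecΓFunctor.obj (E.restrict hU.fromSpec)) (moduleSpecΓFunctor.obj P) _
        (moduleSpecΓFunctor.obj (E.restrict hU.fromSpec)).isModule _ (moduleSpecΓFunctor.obj P).isModule
        (L₀.comp e.symm.toLinearMap))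
    let η : E ⟶ (Scheme.Modules.pushforward (chartQ E U s hU)).obj (Coh.structureModule H) :=
      ((Scheme.Modules.restrictAdjunction hU.fromSpec).homEquiv _ _ Φ) ≫
        (Scheme.Modules.pushforwardComp b hU.fromSpec).hom.app (Coh.structureModule H)
    refine ⟨((Scheme.Modules.pullbackPushforwardAdjunction (chartQ E U s hU)).homEquiv _ _).symm η, fun y m => ?_⟩
    let adj := Scheme.Modules.pullbackPushforwardAdjunction (chartQ E U s hU)
    have hη : adj.unit.app E ≫ (Scheme.Modules.pushforward (chartQ E U s hU)).map ((adj.homEquiv _ _).symm η) = η :=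
      (Adjunction.homEquiv_unit _ _ _ _).symm.trans ((adj.homEquiv _ _).apply_symm_apply η)
    rw [vm_eq_germ]
    have h1 := congrArg (fun φ : E ⟶ _ => φ.app U m) hη
    refine Eq.trans (congrArg ((Coh.structureModule H).presheaf.germ _ y (chartQ_mem E U s hU y)) h1) ?_
    have htop : hU.fromSpec ⁻¹ᵁ U = ⊤ := hU.fromSpec_preimage_self
    have h2 : η.app U m = P.presheaf.map (homOfLE (htop.le.trans le_rfl)).op (show Γ(P, ⊤) from psiSec E U s m l) := by
      show ((Scheme.Modules.restrictAdjunction hU.fromSpec).homEquiv _ _ Φ).app U m = _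
      rw [Adjunction.homEquiv_unit]
      show Φ.app (hU.fromSpec ⁻¹ᵁ U) (E.presheaf.map (homOfLE (hU.fromSpec.image_preimage_le U)).op m) = _
      have h3 : moduleSpecΓFunctor.map Φ (QCoh.toChart hU E m) = L₀ m := by
        have := congr($hΦ (QCoh.toChart hU E m))
        refine this.trans ?_
        show L₀ (e.symm (e m)) = L₀ m
        rw [e.symm_apply_apply]
      have h4 : Φ.app ⊤ (show Γ(E.restrict hU.fromSpec, ⊤) from QCoh.toChart hU E m) =
          (show Γ(P, ⊤) from psiSec E U s m l) := h3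
      rw [← h4]
      refine Eq.trans (congrArg (Φ.app (hU.fromSpec ⁻¹ᵁ U)) ?_)
        (QCoh.map_app_comm Φ (homOfLE (htop.le.trans le_rfl)) _)
      exact (QCoh.map_map (M := E) _ _ _).symm
    rw [h2]
    refine Eq.trans (germ_germ_res (M := Coh.structureModule H)
      (homOfLE (le_top : chartQ E U s hU ⁻¹ᵁ U ≤ ⊤)) y (chartQ_mem E U s hU y)
      (show Γ(Coh.structureModule H, ⊤) from psiSec E U s m l)) ?_
    exact (UnitSec.germ_smul_one ⊤ trivial (psiSec E U s m l)).symm
  choose ρ hρ using hρ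
  refine ⟨∑ l, ρ l ≫ Frame.incl H r l, fun y m => ?_⟩
  rw [vm, smap_sum]
  refine Finset.sum_congr rfl fun l _ => ?_
  rw [smap_comp, show smap (ρ l) y (pmAt _ E y rfl _) = vm (ρ l) y (chartQ_mem E U s hU y) m from rfl, hρ, map_smul]
  refine congrArg _ ?_
  show smap (Frame.incl H r l) y ((Coh.structureModule H).presheaf.germ ⊤ y trivial _) = _
  rw [smap_germ]
  rfl

end Alg

theorem germ_app {T' : Scheme.{u}} (c : T' ⟶ T) {V : T.Opens} {W : T'.Opens} (hle : W ≤ c ⁻¹ᵁ V) (y : T')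
    (hy : y ∈ W) (a : Γ(T, V)) :
    T'.presheaf.germ W y hy (c.appLE V W hle a) = ringAt c y rfl (T.presheaf.germ V (c y) (hle hy) a) := by
  show T'.presheaf.germ W y hy (T'.presheaf.map (homOfLE hle).op (c.app V a)) = (c.stalkMap y).hom _
  rw [T'.presheaf.germ_res_apply]
  exact (Scheme.Hom.germ_stalkMap_apply c V y (hle hy) a).symm

theorem section_ext {a b : Γ(T, ⊤)} (h : ∀ z : T, T.presheaf.germ ⊤ z trivial a = T.presheaf.germ ⊤ z trivial b) :
    a = b :=
  TopCat.Presheaf.section_ext T.sheaf ⊤ a b fun z _ => h z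

/-- The indices of the charts. -/
def Idx (r : ℕ) : Type u := Σ U : X.affineOpens, (Fin r → Γ(E, U.1))

theorem exists_span_of_span {R M : Type u} [CommRing R] [IsLocalRing R] [AddCommGroup M] [Module R M]
    (b : Module.Basis (Fin r) R M) (S : Set M) (hS : Submodule.span R S = ⊤) :
    ∃ v : Fin r → M, (∀ k, v k ∈ S) ∧ Submodule.span R (Set.range v) = ⊤ := by
  classical
  let κ := IsLocalRing.ResidueField R
  let red : M →ₗ[R] (Fin r → κ) :=
    LinearMap.pi fun i => (Algebra.linearMap R κ).comp (b.coord i)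
  have hsurj : Function.Surjective red := fun c => by
    choose c' hc' using fun i => IsLocalRing.residue_surjective (R := R) (c i)
    refine ⟨b.equivFun.symm c', funext fun i => ?_⟩
    show algebraMap R κ (b.repr (b.equivFun.symm c') i) = c i
    rw [show b.repr (b.equivFun.symm c') i = b.equivFun (b.equivFun.symm c') i from rfl, LinearEquiv.apply_symm_apply]
    exact hc' i
  have hspan : Submodule.span κ (red '' S) = ⊤ := by
    refine eq_top_iff.2 fun c _ => ?_
    obtain ⟨m, rfl⟩ := hsurj c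
    have hm : red m ∈ Submodule.map red (Submodule.span R S) := ⟨m, by rw [hS]; trivial, rfl⟩
    rw [Submodule.map_span] at hm
    exact Submodule.span_le_restrictScalars R κ _ hm
  obtain ⟨B, hBS, hBspan, hBli⟩ := exists_linearIndependent κ (red '' S)
  rw [hspan] at hBspan
  let bB := Module.Basis.mk hBli (by rw [Subtype.range_coe_subtype]; exact hBspan.ge)
  haveI : Finite B := Module.Finite.finite_basis bB
  haveI := Fintype.ofFinite B
  have hcard : Fintype.card B = r := by
    have := Module.finrank_eq_card_basis bB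
    rw [Module.finrank_fintype_fun_eq_card, Fintype.card_fin] at this
    exact this.symm
  let σ : Fin r ≃ B := (Fintype.equivFinOfCardEq hcard).symm
  choose v hv hvr using fun k : Fin r => hBS (σ k).2
  refine ⟨v, hv, ?_⟩
  rw [span_eq_top_iff_det b]
  by_contra hu
  have h0 : (algebraMap R κ) (b.det v) = 0 :=
    Ideal.Quotient.eq_zero_iff_mem.2 ((IsLocalRing.mem_maximalIdeal _).2 hu)
  let bκ := Pi.basisFun κ (Fin r)
  have hd : bκ.det (fun k => red (v k)) = algebraMap R κ (b.det v) := by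
    rw [Module.Basis.det_apply, Module.Basis.det_apply, RingHom.map_det]
    refine congrArg Matrix.det ?_
    ext i j
    rfl
  have hfun : (fun k => red (v k)) = fun k => ((σ k : B) : Fin r → κ) := funext hvr
  have hne : IsUnit (bκ.det fun k => red (v k)) := by
    rw [← span_eq_top_iff_det bκ, hfun]
    rw [show (fun k => ((σ k : B) : Fin r → κ)) = Subtype.val ∘ σ from rfl, Set.range_comp, σ.range_eq_univ,
      Set.image_univ, Subtype.range_coe_subtype]
    exact hBspan
  rw [hd, h0] at hne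
  exact not_isUnit_zero hne

theorem exists_chart_mem (hE : Coh.IsQCoh E) {g : T ⟶ X} {L : T.Modules} (hL : FlatMod.IsFinLocFreeOfRank r L)
    (t : (Scheme.Modules.pullback g).obj E ⟶ L) [Epi t] (z : T) :
    ∃ i : Idx E r, InW i.1.1 i.2 g t z := by
  obtain ⟨_, ⟨U, hU, rfl⟩, hz, -⟩ := X.isBasis_affineOpens.exists_subset_of_mem_open (Set.mem_univ (g z)) isOpen_univ
  have hU' : IsAffineOpen U := hU
  obtain ⟨b⟩ := CurveTensor.exists_basis_stalk hL z
  have hS : Submodule.span (T.presheaf.stalk z) (Set.range fun m : Γ(E, U) => vm t z hz m) = ⊤ := by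
    refine eq_top_iff.2 fun v hv0 => ?_
    clear hv0
    obtain ⟨n, rfl⟩ := smap_surjective t z v
    have hn : n ∈ Submodule.span (T.presheaf.stalk z) (Set.range (pmAt g E z rfl)) := by
      rw [span_range_pmAt]; trivial
    induction hn using Submodule.span_induction with
    | mem n hn =>
      obtain ⟨e, rfl⟩ := hn
      letI := QCoh.stalkModule E hz
      haveI := QCoh.isLocalizedModule_germLin hE hU' hz
      obtain ⟨⟨m, a⟩, hma⟩ := IsLocalizedModule.surj (hU'.primeIdealOf ⟨g z, hz⟩).asIdeal.primeCompl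
        (QCoh.germLin E hz) e
      have ha : IsUnit (X.presheaf.germ U (g z) hz (a : Γ(X, U))) :=
        (X.mem_basicOpen _ (g z) hz).1 ((QCoh.mem_basicOpen_iff_notMem hU' hz _).2 a.2)
      have h1 : X.presheaf.germ U (g z) hz (a : Γ(X, U)) • e = E.presheaf.germ U (g z) hz m := hma
      have h2 : ringAt g z rfl (X.presheaf.germ U (g z) hz (a : Γ(X, U))) • smap t z (pmAt g E z rfl e) =
          vm t z hz m := by
        rw [vm, ← h1, pmAt_smul, map_smul]
      obtain ⟨a', ha'⟩ := (ha.map (ringAt g z rfl)).exists_left_inv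
      rw [← one_smul (T.presheaf.stalk z) (smap t z _), ← ha', mul_smul, h2]
      exact Submodule.smul_mem _ _ (Submodule.subset_span ⟨m, rfl⟩)
    | zero => rw [map_zero]; exact zero_mem _
    | add x y _ _ hx hy => rw [map_add]; exact add_mem hx hy
    | smul c x _ hx => rw [map_smul]; exact Submodule.smul_mem _ _ hx
  obtain ⟨v, hv, hvs⟩ := exists_span_of_span b _ hS
  choose m hm using hv
  refine ⟨⟨⟨U, hU'⟩, m⟩, hz, ?_⟩
  show Submodule.span _ (Set.range fun k => vm t z hz (m k)) = ⊤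
  rw [show (fun k => vm t z hz (m k)) = v from funext hm]
  exact hvs

theorem freeMod_rank (T : Scheme.{u}) (r : ℕ) : FlatMod.IsFinLocFreeOfRank r (FlatMod.freeMod T r) := fun _ =>
  ⟨⊤, trivial, ⟨(Scheme.Modules.restrictFunctorIsoPullback _).app _ ≪≫ KFlatLib.pullFreeIso _ r⟩⟩

theorem span_stdGerm (T : Scheme.{u}) (r : ℕ) (y : T) :
    Submodule.span (T.presheaf.stalk y) (Set.range fun k => stdGerm T r k y) = ⊤ :=
  (eq_top_iff.2 (ModZero.span_germ_frame Frame.incl_isFrame (U := ⊤) trivial))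

section Univ

variable (U : X.Opens) (s : Fin r → Γ(E, U)) (hU : IsAffineOpen U)

/-- The universal property datum of a quotient on a chart. -/
def IsChartQuot (tU : (Scheme.Modules.pullback (chartQ E U s hU)).obj E ⟶ FlatMod.freeMod (Spec (chartRing E U s)) r) :
    Prop :=
  ∀ (y : Spec (chartRing E U s)) (m : Γ(E, U)),
    vm tU y (chartQ_mem E U s hU y) m =
      ∑ l, (Spec (chartRing E U s)).presheaf.germ ⊤ y trivial (psiSec E U s m l) • stdGerm _ r l y

variable {tU : (Scheme.Modules.pullback (chartQ E U s hU)).obj E ⟶ FlatMod.freeMod (Spec (chartRing E U s)) r}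
  (htU : IsChartQuot E U s hU tU)

include htU

theorem univ_delta (y : Spec (chartRing E U s)) (k : Fin r) :
    vm tU y (chartQ_mem E U s hU y) (s k) = stdGerm (Spec (chartRing E U s)) r k y := by
  rw [htU, Finset.sum_eq_single k]
  · rw [psiSec, psi_delta, if_pos rfl, map_one, map_one, one_smul]
  · intro l _ hl
    rw [psiSec, psi_delta, if_neg hl.symm, map_zero, map_zero, zero_smul]
  · intro h; exact absurd (Finset.mem_univ k) h

theorem univ_epi : Epi tU := epi_of_smap_surjective _ fun y => by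
  rw [← LinearMap.range_eq_top, eq_top_iff, ← span_stdGerm _ r y, Submodule.span_le]
  rintro _ ⟨k, rfl⟩
  exact ⟨_, univ_delta E U s hU htU y k⟩

theorem univ_inW (y : Spec (chartRing E U s)) : InW U s (chartQ E U s hU) tU y :=
  ⟨chartQ_mem E U s hU y, by
    rw [show (fun k => vm tU y (chartQ_mem E U s hU y) (s k)) = fun k => stdGerm _ r k y from
      funext (univ_delta E U s hU htU y)]
    exact span_stdGerm _ r y⟩

theorem inW_pulled {T : Scheme.{u}} (c : T ⟶ Spec (chartRing E U s)) {g : T ⟶ X} (h : c ≫ chartQ E U s hU = g) (z : T) :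
    InW U s g (quotBC h tU) z :=
  (inW_quotBC_iff h (freeMod_rank _ r) tU z).2 (univ_inW E U s hU htU (c z))

theorem chart_coef {T : Scheme.{u}} (c : T ⟶ Spec (chartRing E U s)) {g : T ⟶ X} (h : c ≫ chartQ E U s hU = g) (z : T)
    (hz : g z ∈ U) (m : Γ(E, U)) :
    vm (quotBC h tU) z hz m = ∑ l, ringAt c z rfl ((Spec (chartRing E U s)).presheaf.germ ⊤ (c z) trivial
        (psiSec E U s m l)) •
      pmAt c (FlatMod.freeMod (Spec (chartRing E U s)) r) z rfl (stdGerm (Spec (chartRing E U s)) r l (c z)) := by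
  rw [vm_quotBC h (tU) z rfl hz (chartQ_mem E U s hU (c z)) m, htU]
  show pm c _ z _ = _
  rw [pm_sum]
  exact Finset.sum_congr rfl fun l _ => pm_smul c _ _

/-- A quotient in the chart comes from the chart. -/
theorem chart_lift (hE : Coh.IsQCoh E) {T' : Scheme.{u}} {g' : T' ⟶ X} {L : T'.Modules}
    (hL : FlatMod.IsFinLocFreeOfRank r L) (t₁ : (Scheme.Modules.pullback g').obj E ⟶ L)
    (hW' : ∀ y, InW U s g' t₁ y) :
    ∃ (c : T' ⟶ Spec (chartRing E U s)) (hc : c ≫ chartQ E U s hU = g')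
      (e : (Scheme.Modules.pullback c).obj (FlatMod.freeMod (Spec (chartRing E U s)) r) ≅ L),
      quotBC hc tU ≫ e.hom = t₁ := by
  have hg' : ∀ y, g' y ∈ U := fun y => (hW' y).fst
  obtain ⟨e₁, he₁⟩ := exists_normal hL t₁ hW'
  let t₂ := t₁ ≫ e₁.hom
  have hle : (⊤ : T'.Opens) ≤ g' ⁻¹ᵁ U := fun y _ => hg' y
  have hadd : ∀ m m' l, coef hg' t₂ (m + m') l = coef hg' t₂ m l + coef hg' t₂ m' l := fun m m' l => by
    simp only [coef, map_add]
  have hsmul : ∀ (c : Γ(X, U)) (m : Γ(E, U)) (l : Fin r),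
      coef hg' t₂ (c • m) l = g'.appLE U ⊤ hle c * coef hg' t₂ m l := fun c m l => by
    refine section_ext fun z => ?_
    rw [map_mul]
    refine coef_unique hg' t₂ z (c • m)
      (fun l => T'.presheaf.germ ⊤ z trivial (g'.appLE U ⊤ hle c) * T'.presheaf.germ ⊤ z trivial (coef hg' t₂ m l))
      ?_ l
    rw [germ_app g' hle z trivial c, vm,
      show E.presheaf.germ U (g' z) (hg' z) (c • m) = _ from QCoh.germ_smul' E (hg' z) c m, pmAt_smul, map_smul,
      show smap t₂ z (pmAt g' E z rfl (E.presheaf.germ U (g' z) (hg' z) m)) = vm t₂ z (hg' z) m from rfl,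
      vm_eq_sum hg', Finset.smul_sum]
    exact Finset.sum_congr rfl fun l _ => smul_smul _ _ _
  have hdelta : ∀ k l, coef hg' t₂ (s k) l = if k = l then 1 else 0 := fun k l => by
    refine section_ext fun z => ?_
    refine (coef_unique hg' t₂ z (s k) (fun l => if k = l then 1 else 0) ?_ l).trans ?_
    · rw [he₁, Finset.sum_eq_single k]
      · rw [if_pos rfl, one_smul]
      · intro l _ hl; rw [if_neg hl.symm, zero_smul]
      · intro h; exact absurd (Finset.mem_univ k) h
    · split_ifs <;> simp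
  obtain ⟨φ, hφ1, hφ2⟩ := exists_desc_chart E U s (g'.appLE U ⊤ hle) (fun m l => coef hg' t₂ m l)
    hadd hsmul hdelta
  let c : T' ⟶ Spec (chartRing E U s) := T'.toSpecΓ ≫ Spec.map φ
  have hcq : c ≫ chartQ E U s hU = g' := by
    haveI : IsIso (⊤ : T'.Opens).ι := T'.topIso.isIso_hom
    rw [← cancel_epi (⊤ : T'.Opens).ι]
    show _ ≫ (T'.toSpecΓ ≫ Spec.map φ) ≫ Spec.map (chartC E U s) ≫ hU.fromSpec = _
    rw [Category.assoc, ← Spec.map_comp_assoc, hφ1, ← Category.assoc, ← Scheme.Opens.toSpecΓ_top,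
      Scheme.Opens.toSpecΓ_SpecMap_appLE_assoc, hU.toSpecΓ_fromSpec, Scheme.Hom.resLE_comp_ι]
  have hcψ : ∀ (z : T') (m : Γ(E, U)) (l : Fin r),
      ringAt c z rfl ((Spec (chartRing E U s)).presheaf.germ ⊤ (c z) trivial (psiSec E U s m l)) =
        T'.presheaf.germ ⊤ z trivial (coef hg' t₂ m l) := fun z m l => by
    rw [← hφ2 m l]
    refine ((Scheme.Hom.germ_stalkMap_apply c ⊤ z trivial _)).trans (congrArg (T'.presheaf.germ ⊤ z trivial) ?_)
    show c.appTop _ = _
    rw [Scheme.Hom.comp_appTop, CommRingCat.comp_apply, Scheme.toSpecΓ_appTop]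
    have := congr($(Scheme.ΓSpecIso_naturality φ) ((Scheme.ΓSpecIso (chartRing E U s)).inv
      (psi E U s m l)))
    refine this.trans ?_
    rw [CommRingCat.comp_apply, Iso.inv_hom_id_apply]
  obtain ⟨e₂, he₂⟩ := exists_normal (GrassFlag.rank_pullback c (freeMod_rank _ r)) _ (inW_pulled E U s hU htU c hcq)
  refine ⟨c, hcq, e₂ ≪≫ e₁.symm, ?_⟩
  rw [Iso.trans_hom, Iso.symm_hom, ← Category.assoc, Iso.comp_inv_eq]
  refine hom_ext_vm hE hU hg' fun z m => ?_
  rw [vm_comp, chart_coef E U s hU htU c hcq z, map_sum, vm_eq_sum hg' t₂]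
  refine Finset.sum_congr rfl fun l _ => ?_
  rw [map_smul, hcψ]
  congr 1
  have h1 := he₂ z l
  rw [vm_comp, vm_quotBC hcq (tU) z rfl _ (chartQ_mem E U s hU (c z)), (univ_delta E U s hU htU)] at h1
  exact h1

/-- A morphism to the chart is determined by the quotient it gives. -/
theorem chart_mono {T : Scheme.{u}} (c c' : T ⟶ Spec (chartRing E U s))
    (h1 : c ≫ chartQ E U s hU = c' ≫ chartQ E U s hU)
    (e : (Scheme.Modules.pullback c).obj (FlatMod.freeMod (Spec (chartRing E U s)) r) ≅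
      (Scheme.Modules.pullback c').obj (FlatMod.freeMod (Spec (chartRing E U s)) r))
    (he : quotBC h1 tU ≫ e.hom = quotBC (rfl : c' ≫ chartQ E U s hU = c' ≫ chartQ E U s hU) tU) : c = c' := by
  obtain ⟨e', he'⟩ := exists_normal (GrassFlag.rank_pullback c' (freeMod_rank _ r)) _ (inW_pulled E U s hU htU c' rfl)
  have hcb : c ≫ Spec.map (chartC E U s) = c' ≫ Spec.map (chartC E U s) := by
    rw [← cancel_mono hU.fromSpec, Category.assoc, Category.assoc]
    exact h1
  obtain ⟨φ, rfl⟩ : ∃ φ : chartRing E U s ⟶ Γ(T, ⊤), T.toSpecΓ ≫ Spec.map φ = c :=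
    ⟨(Scheme.ΓSpecIso _).inv ≫ c.appTop, by
      rw [Spec.map_comp, ← Scheme.toSpecΓ_naturality_assoc, toSpecΓ_SpecMap_ΓSpecIso_inv, Category.comp_id]⟩
  obtain ⟨φ', rfl⟩ : ∃ φ : chartRing E U s ⟶ Γ(T, ⊤), T.toSpecΓ ≫ Spec.map φ = c' :=
    ⟨(Scheme.ΓSpecIso _).inv ≫ c'.appTop, by
      rw [Spec.map_comp, ← Scheme.toSpecΓ_naturality_assoc, toSpecΓ_SpecMap_ΓSpecIso_inv, Category.comp_id]⟩
  have happ : ∀ (ψ : chartRing E U s ⟶ Γ(T, ⊤)) (z : T) (x : chartRing E U s),
      ringAt (T.toSpecΓ ≫ Spec.map ψ) z rfl ((Spec (chartRing E U s)).presheaf.germ ⊤ _ trivial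
        ((Scheme.ΓSpecIso _).inv x)) = T.presheaf.germ ⊤ z trivial (ψ x) := fun ψ z x => by
    refine ((Scheme.Hom.germ_stalkMap_apply (T.toSpecΓ ≫ Spec.map ψ) ⊤ z trivial _)).trans
      (congrArg (T.presheaf.germ ⊤ z trivial) ?_)
    show (T.toSpecΓ ≫ Spec.map ψ).appTop _ = _
    rw [Scheme.Hom.comp_appTop, CommRingCat.comp_apply, Scheme.toSpecΓ_appTop]
    refine (congr($(Scheme.ΓSpecIso_naturality ψ) ((Scheme.ΓSpecIso (chartRing E U s)).inv x))).trans ?_
    rw [CommRingCat.comp_apply, Iso.inv_hom_id_apply]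
  have hA : chartC E U s ≫ φ = chartC E U s ≫ φ' := by
    have := congrArg Scheme.Hom.appTop hcb
    simp only [Category.assoc, ← Spec.map_comp] at this
    rw [Scheme.Hom.comp_appTop, Scheme.Hom.comp_appTop, Scheme.toSpecΓ_appTop, Scheme.ΓSpecIso_naturality,
      Scheme.ΓSpecIso_naturality] at this
    exact (cancel_epi _).1 this
  refine congrArg (T.toSpecΓ ≫ Spec.map ·) (chart_hom_ext E U s hA fun m l => section_ext fun z => ?_)
  rw [← happ φ z, ← happ φ' z]
  -- the coefficients of one normal form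
  have hz : ((T.toSpecΓ ≫ Spec.map φ') ≫ chartQ E U s hU) z ∈ U := chartQ_mem E U s hU _
  have hval : ∀ k, smap e'.hom z (smap e.hom z (pmAt _ (FlatMod.freeMod (Spec (chartRing E U s)) r) z rfl (stdGerm (Spec (chartRing E U s)) r k _))) =
      stdGerm T r k z := fun k => by
    have h2 := (congrArg (fun f => vm (f ≫ e'.hom) z hz (s k)) he).trans (he' z k)
    rw [vm_comp, vm_comp, vm_quotBC h1 (tU) z rfl _ (chartQ_mem E U s hU _), (univ_delta E U s hU htU)] at h2
    exact h2
  have hval' : ∀ k, smap e'.hom z (pmAt _ (FlatMod.freeMod (Spec (chartRing E U s)) r) z rfl (stdGerm (Spec (chartRing E U s)) r k _)) =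
      stdGerm T r k z := fun k => by
    have h2 := he' z k
    rw [vm_comp, vm_quotBC (rfl : _ ≫ chartQ E U s hU = _) (tU) z rfl _ (chartQ_mem E U s hU _), (univ_delta E U s hU htU)] at h2
    exact h2
  have h3 := congrArg (fun f => vm (f ≫ e'.hom) z hz m) he
  rw [vm_comp _ e'.hom, vm_comp _ e'.hom, vm_comp _ e.hom, chart_coef E U s hU htU _ h1, chart_coef E U s hU htU _ rfl, map_sum, map_sum, map_sum] at h3
  simp only [map_smul] at h3
  simp only [hval, hval'] at h3
  simp only [← stdBasis_apply] at h3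
  have := congrArg (fun x => (stdBasis T r z).repr x l) h3
  simp only [Module.Basis.repr_sum_self] at this
  exact this

theorem chart_lift_pt [Epi tU] (hE : Coh.IsQCoh E) {T T' : Scheme.{u}} {g : T ⟶ X} {L : T.Modules}
    (hL : FlatMod.IsFinLocFreeOfRank r L) (t : (Scheme.Modules.pullback g).obj E ⟶ L) [Epi t] (a : T' ⟶ T)
    (hW' : ∀ y, InW U s (a ≫ g) (quotBC (rfl : a ≫ g = a ≫ g) t) y) :
    ∃ c : T' ⟶ Spec (chartRing E U s),
      pullPt c (mk (chartQ E U s hU) tU (freeMod_rank _ r)) = pullPt a (mk g t hL) := by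
  haveI := GrassFlag.epi_quotBC (rfl : a ≫ g = a ≫ g) t
  obtain ⟨c, hcq, e, he⟩ := chart_lift E U s hU htU hE (GrassFlag.rank_pullback a hL) _ hW'
  refine ⟨c, ?_⟩
  haveI := GrassFlag.epi_quotBC hcq tU
  rw [pullPt_mk a g rfl t hL, pullPt_mk c _ hcq tU (freeMod_rank _ r)]
  exact (mk_eq_mk_iff _ _ _ _ _).2 ⟨e, he⟩

theorem inW_of_pullPt [Epi tU] {T T' : Scheme.{u}} {g : T ⟶ X} {L : T.Modules}
    (hL : FlatMod.IsFinLocFreeOfRank r L) (t : (Scheme.Modules.pullback g).obj E ⟶ L) [Epi t] (a : T' ⟶ T)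
    (c : T' ⟶ Spec (chartRing E U s))
    (hc : pullPt c (mk (chartQ E U s hU) tU (freeMod_rank _ r)) = pullPt a (mk g t hL)) (y : T') :
    InW U s g t (a y) := by
  haveI := GrassFlag.epi_quotBC (rfl : a ≫ g = a ≫ g) t
  have h1 : c ≫ chartQ E U s hU = a ≫ g := congrArg Sigma.fst hc
  haveI := GrassFlag.epi_quotBC h1 tU
  rw [pullPt_mk a g rfl t hL, pullPt_mk c _ h1 tU (freeMod_rank _ r)] at hc
  obtain ⟨e, he⟩ := (mk_eq_mk_iff _ _ _ _ _).1 hc
  exact (inW_quotBC_iff rfl hL t y).1 ((inW_pulled E U s hU htU c h1 y).iso e he)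

theorem chart_mono_pt [Epi tU] {T : Scheme.{u}} (c c' : T ⟶ Spec (chartRing E U s))
    (hc : pullPt c (mk (chartQ E U s hU) tU (freeMod_rank _ r)) =
      pullPt c' (mk (chartQ E U s hU) tU (freeMod_rank _ r))) : c = c' := by
  have h1 : c ≫ chartQ E U s hU = c' ≫ chartQ E U s hU := congrArg Sigma.fst hc
  haveI := GrassFlag.epi_quotBC h1 tU
  haveI := GrassFlag.epi_quotBC (rfl : c' ≫ chartQ E U s hU = c' ≫ chartQ E U s hU) tU
  rw [pullPt_mk c _ h1 tU (freeMod_rank _ r), pullPt_mk c' _ rfl tU (freeMod_rank _ r)] at hc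
  obtain ⟨e, he⟩ := (mk_eq_mk_iff _ _ _ _ _).1 hc
  exact chart_mono E U s hU htU c c' h1 e he

end Univ

theorem exists_isGrass_of (hE : Coh.IsQCoh E) (r : ℕ)
    (tU : ∀ i : Idx E r, (Scheme.Modules.pullback (chartQ E i.1.1 i.2 i.1.2)).obj E ⟶
      FlatMod.freeMod (Spec (chartRing E i.1.1 i.2)) r)
    (htU : ∀ i : Idx E r, IsChartQuot E i.1.1 i.2 i.1.2 (tU i)) :
    ∃ (G : Scheme.{u}) (π : G ⟶ X) (Q : G.Modules) (q : (Scheme.Modules.pullback π).obj E ⟶ Q),
      Grass.IsGrass π E r Q q := by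
  classical
  let H : Idx E r → Scheme.{u} := fun i => Spec (chartRing E i.1.1 i.2)
  let qi : ∀ i, H i ⟶ X := fun i => chartQ E i.1.1 i.2 i.1.2
  have hepiU : ∀ i, Epi (tU i) := fun i => univ_epi E i.1.1 i.2 i.1.2 (htU i)
  have hfree : ∀ T : Scheme.{u}, FlatMod.IsFinLocFreeOfRank r (FlatMod.freeMod T r) := fun T => freeMod_rank T r
  let el : ∀ i, (pre E r).obj (op (H i)) := fun i => haveI := hepiU i; mk (qi i) (tU i) (hfree _)
  have hdata : ∀ {T : Scheme.{u}} (p : Pt E r T), ∃ (L : T.Modules) (t : (Scheme.Modules.pullback p.1).obj E ⟶ L)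
      (_ : Epi t) (hL : FlatMod.IsFinLocFreeOfRank r L), p = mk p.1 t hL := fun p => exists_mk p
  let W : ∀ (T : Scheme.{u}), (pre E r).obj (op T) → Idx E r → T.Opens := fun T p i =>
    ⟨{z | InW i.1.1 i.2 p.1 (hdata p).choose_spec.choose z},
      isOpen_inW (hdata p).choose_spec.choose_spec.choose_spec.choose (hdata p).choose_spec.choose⟩
  have hWmem : ∀ {T : Scheme.{u}} (g : T ⟶ X) {L : T.Modules} (t : (Scheme.Modules.pullback g).obj E ⟶ L) [Epi t]
      (hL : FlatMod.IsFinLocFreeOfRank r L) (i : Idx E r) (z : T),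
      z ∈ W T (mk g t hL) i ↔ InW i.1.1 i.2 g t z := by
    intro T g L t _ hL i z
    have key : ∀ {L₀ : T.Modules} (t₀ : (Scheme.Modules.pullback g).obj E ⟶ L₀) (ht₀ : Epi t₀)
        (hL₀ : FlatMod.IsFinLocFreeOfRank r L₀), mk g t hL = mk g t₀ hL₀ →
        (InW i.1.1 i.2 g t₀ z ↔ InW i.1.1 i.2 g t z) := by
      intro L₀ t₀ ht₀ hL₀ he
      obtain ⟨e, hte⟩ := (mk_eq_mk_iff g t hL t₀ hL₀).1 he
      exact ⟨fun h => h.iso e.symm (by rw [Iso.symm_hom, ← hte, Category.assoc, e.hom_inv_id, Category.comp_id]),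
        fun h => h.iso e hte⟩
    exact key _ _ _ (hdata (mk g t hL)).choose_spec.choose_spec.choose_spec.choose_spec
  have hW : ∀ (i : Idx E r) {T : Scheme.{u}} (p : (pre E r).obj (op T)) {T' : Scheme.{u}} (a : T' ⟶ T),
      (∃ c : T' ⟶ H i, (pre E r).map c.op (el i) = (pre E r).map a.op p) ↔ Set.range a ⊆ (W T p i : Set T) := by
    intro i T p T' a
    obtain ⟨L, t, ht, hL, hp⟩ := hdata p
    haveI := hepiU i
    obtain ⟨g, N, hN⟩ := p
    dsimp only at t hp
    rw [hp]
    constructor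
    · rintro ⟨c, hc⟩ _ ⟨y, rfl⟩
      rw [SetLike.mem_coe, hWmem]
      exact inW_of_pullPt E i.1.1 i.2 i.1.2 (htU i) hL t a c hc y
    · intro hr
      exact chart_lift_pt E i.1.1 i.2 i.1.2 (htU i) hE hL t a fun y =>
        (inW_quotBC_iff rfl hL t y).2 ((hWmem g t hL i (a y)).1 (hr ⟨y, rfl⟩))
  have hmono : ∀ (i : Idx E r) {T : Scheme.{u}} (c c' : T ⟶ H i),
      (pre E r).map c.op (el i) = (pre E r).map c'.op (el i) → c = c' := by
    intro i T c c' hc
    haveI := hepiU i
    exact chart_mono_pt E i.1.1 i.2 i.1.2 (htU i) c c' hc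
  have hcov : ∀ {T : Scheme.{u}} (p : (pre E r).obj (op T)) (z : T), ∃ i, z ∈ W T p i := by
    intro T p z
    obtain ⟨L, t, ht, hL, hp⟩ := hdata p
    obtain ⟨g, N, hN⟩ := p
    dsimp only at t hp
    rw [hp]
    obtain ⟨i, hi⟩ := exists_chart_mem E hE hL t z
    exact ⟨i, (hWmem g t hL i z).2 hi⟩
  obtain ⟨G, x, hx⟩ := RepCharts.exists_univ (pre E r) isSheaf H el W hW hmono hcov
  obtain ⟨π, N, Q, q, hQ, hq, rfl⟩ := x
  refine ⟨G, π, Q, q, hQ, hq, fun T g L hL s hs => ?_⟩
  obtain ⟨h, hh, huniq⟩ := hx T (mk g s hL)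
  have hiff : ∀ h' : T ⟶ G, (pre E r).map h'.op (mk π q hQ) = mk g s hL ↔
      ∃ (hg : h' ≫ π = g) (e : (Scheme.Modules.pullback h').obj Q ≅ L), quotBC hg q ≫ e.hom = s := by
    intro h'
    constructor
    · intro he
      have hg : h' ≫ π = g := congrArg Sigma.fst he
      haveI := GrassFlag.epi_quotBC hg q
      rw [pre_map, pullPt_mk h' π hg q hQ] at he
      exact ⟨hg, (mk_eq_mk_iff _ _ _ _ _).1 he⟩
    · rintro ⟨hg, e, he⟩
      haveI := GrassFlag.epi_quotBC hg q
      rw [pre_map, pullPt_mk h' π hg q hQ]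
      exact (mk_eq_mk_iff _ _ _ _ _).2 ⟨e, he⟩
  exact ⟨h, (hiff h).1 hh, fun h' hh' => huniq h' ((hiff h').2 hh')⟩

theorem exists_isGrass (hE : Coh.IsQCoh E) (r : ℕ) :
    ∃ (G : Scheme.{u}) (π : G ⟶ X) (Q : G.Modules) (q : (Scheme.Modules.pullback π).obj E ⟶ Q),
      Grass.IsGrass π E r Q q := by
  choose tU htU using fun i : Idx E r => exists_univ_quot E i.1.1 i.2 i.1.2 hE
  exact exists_isGrass_of E hE r tU htU

end Groth.Agent.H23.GrassExist
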