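import Groth.Agent.H23.GrassExist.Geom

/-!
Flag schemes of locally free modules as towers of Grassmannian bundles.
-/

set_option autoImplicit false
set_option backward.isDefEq.respectTransparency false
set_option backward.isDefEq.respectTransparency.types false
set_option linter.style.haveILetI false
set_option linter.unusedSectionVars false

universe u

open CategoryTheory CategoryTheory.Limits AlgebraicGeometry TopologicalSpace Opposite

noncomputable section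

namespace Groth.Agent.H23.GrassExist.FlagGeom

open Groth.Agent Groth.Agent.QuotFunLib Grass

variable {X F F' : Scheme.{u}} {E : X.Modules}

/-- Composing a base change with one more step. -/
theorem quotBC_two {π : F ⟶ X} {φ : F' ⟶ F} {T : Scheme.{u}} {h : T ⟶ F'} {h₀ : T ⟶ F} {g : T ⟶ X}
    (hh : h ≫ φ = h₀) (hg : h₀ ≫ π = g) (hgg : h ≫ φ ≫ π = g) {Q : F.Modules}
    (q : (Scheme.Modules.pullback π).obj E ⟶ Q) :
    quotBC hg q ≫ quotBC hh (𝟙 ((Scheme.Modules.pullback φ).obj Q)) = quotBC hgg (quotBC (rfl : φ ≫ π = φ ≫ π) q) := by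
  rw [GrassFlag.quotBC_quotBC (rfl : φ ≫ π = φ ≫ π) hh hg hgg q (𝟙 _), Category.comp_id]

theorem cancel_map {T : Scheme.{u}} (P : F.Modules ⥤ T.Modules) {A B : T.Modules} {C D : F.Modules} {Z : T.Modules}
    (a : A ⟶ B) (b : B ⟶ P.obj C) (f : C ⟶ D) (g : D ⟶ C) (h : f ≫ g = 𝟙 C) (r : P.obj C ⟶ Z) :
    (a ≫ b ≫ P.map f) ≫ P.map g ≫ r = a ≫ b ≫ r := by
  simp only [Category.assoc]
  rw [← P.map_comp_assoc, h, P.map_id, Category.id_comp]

/-- A Grassmannian bundle over a flag scheme is a flag scheme. -/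
theorem isFlag_step {j R : ℕ} {n : Fin (j + 1) → ℕ} {π : F ⟶ X} {Q : Fin j → F.Modules}
    {q : ∀ i, (Scheme.Modules.pullback π).obj E ⟶ Q i} (hF : IsFlag π E (fun i => n (Fin.castSucc i)) Q q)
    {M : F.Modules} (p : (Scheme.Modules.pullback π).obj E ⟶ M) [Epi p]
    (hM : FlatMod.IsFinLocFreeOfRank R M) (hpa : ∀ i, ∃ a : Q i ⟶ M, q i ≫ a = p)
    (hpb : ∀ (T : Scheme.{u}) (h : T ⟶ F) (g : T ⟶ X) (hg : h ≫ π = g) (L : T.Modules)
      (s : (Scheme.Modules.pullback g).obj E ⟶ L), (∀ i, ∃ b, quotBC hg (q i) ≫ b = s) → ∃ b, quotBC hg p ≫ b = s)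
    {φ : F' ⟶ F} {Q' : F'.Modules} {u : (Scheme.Modules.pullback φ).obj M ⟶ Q'}
    (hG : IsGrass φ M (n (Fin.last j)) Q' u) :
    ∃ (Q2 : Fin (j + 1) → F'.Modules) (q2 : ∀ i, (Scheme.Modules.pullback (φ ≫ π)).obj E ⟶ Q2 i),
      IsFlag (φ ≫ π) E n Q2 q2 ∧ ∀ i, ∃ e : (Scheme.Modules.pullback φ).obj (Q i) ≅ Q2 (Fin.castSucc i),
        quotBC (rfl : φ ≫ π = φ ≫ π) (q i) ≫ e.hom = q2 (Fin.castSucc i) := by
  haveI := hG.epi
  let Q2 : Fin (j + 1) → F'.Modules := Fin.snoc (fun i => (Scheme.Modules.pullback φ).obj (Q i)) Q'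
  have hc : ∀ i, Q2 (Fin.castSucc i) = (Scheme.Modules.pullback φ).obj (Q i) := fun i => by simp [Q2]
  have hl : Q2 (Fin.last j) = Q' := by simp [Q2]
  let pb := quotBC (rfl : φ ≫ π = φ ≫ π) p
  haveI : Epi pb := GrassFlag.epi_quotBC _ p
  haveI : Epi (pb ≫ u) := epi_comp _ _
  let q2 : ∀ i, (Scheme.Modules.pullback (φ ≫ π)).obj E ⟶ Q2 i :=
    Fin.lastCases (pb ≫ u ≫ eqToHom hl.symm) (fun i => quotBC rfl (q i) ≫ eqToHom (hc i).symm)
  have hqc : ∀ i, q2 (Fin.castSucc i) = quotBC rfl (q i) ≫ eqToHom (hc i).symm := fun i => by simp [q2]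
  have hql : q2 (Fin.last j) = pb ≫ u ≫ eqToHom hl.symm := by simp [q2]
  refine ⟨Q2, q2, ⟨fun i => ?_, fun i => ?_, fun i i' => ?_, fun T g L hL s hs hn => ?_⟩,
    fun i => ⟨eqToIso (hc i).symm, by rw [hqc]; rfl⟩⟩
  · refine Fin.lastCases ?_ (fun i => ?_) i
    · rw [hl]; exact hG.rank
    · rw [hc]; exact GrassFlag.rank_pullback φ (hF.rank i)
  · refine Fin.lastCases ?_ (fun i => ?_) i
    · rw [hql]; infer_instance
    · rw [hqc]
      haveI := hF.epi i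
      haveI := GrassFlag.epi_quotBC (rfl : φ ≫ π = φ ≫ π) (q i)
      infer_instance
  · refine Fin.lastCases ?_ (fun i => ?_) i <;> refine Fin.lastCases ?_ (fun i' => ?_) i'
    · exact fun _ => ⟨𝟙 _, Category.comp_id _⟩
    · exact fun h => absurd h (not_le.2 (Fin.castSucc_lt_last i'))
    · intro _
      obtain ⟨a, ha⟩ := hpa i
      refine ⟨eqToHom (hc i) ≫ (Scheme.Modules.pullback φ).map a ≫ u ≫ eqToHom hl.symm, ?_⟩
      rw [hqc, hql, Category.assoc, eqToHom_trans_assoc, eqToHom_refl, Category.id_comp, ← Category.assoc,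
        ← GrassFlag.quotBC_comp, ha]
    · intro h
      obtain ⟨a, ha⟩ := hF.nested i i' (Fin.castSucc_le_castSucc_iff.1 h)
      refine ⟨eqToHom (hc i) ≫ (Scheme.Modules.pullback φ).map a ≫ eqToHom (hc i').symm, ?_⟩
      rw [hqc, hqc, Category.assoc, eqToHom_trans_assoc, eqToHom_refl, Category.id_comp, ← Category.assoc,
        ← GrassFlag.quotBC_comp, ha]
  · obtain ⟨h₀, ⟨hg, e₀, he₀⟩, huniq₀⟩ := hF.univ T g (fun i => L (Fin.castSucc i)) (fun i => hL _)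
      (fun i => s (Fin.castSucc i)) (fun i => hs _)
      (fun i i' hii => hn _ _ (Fin.castSucc_le_castSucc_iff.2 hii))
    obtain ⟨b, hb⟩ := hpb T h₀ g hg (L (Fin.last j)) (s (Fin.last j)) fun i => by
      obtain ⟨t, ht⟩ := hn (Fin.castSucc i) (Fin.last j) (Fin.le_last _)
      exact ⟨(e₀ i).hom ≫ t, by rw [← Category.assoc, he₀, ht]⟩
    haveI := hs (Fin.last j)
    haveI : Epi (quotBC hg p ≫ b) := by rw [hb]; infer_instance
    haveI : Epi b := epi_of_epi (quotBC hg p) b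
    haveI : Epi (quotBC hg p) := GrassFlag.epi_quotBC hg p
    obtain ⟨h, ⟨hh, e, he⟩, huniq⟩ := hG.univ T h₀ (L (Fin.last j)) (hL _) b inferInstance
    have hgg : h ≫ φ ≫ π = g := by rw [← Category.assoc, hh, hg]
    have key : ∀ (h' : T ⟶ F') (hh' : h' ≫ φ = h₀) (hgg' : h' ≫ φ ≫ π = g),
        quotBC hgg' (q2 (Fin.last j)) = quotBC hg p ≫ quotBC hh' u ≫ (Scheme.Modules.pullback h').map (eqToHom hl.symm) := by
      intro h' hh' hgg'
      rw [hql, ← Category.assoc pb u, GrassFlag.quotBC_comp, ← Category.assoc (quotBC hg p),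
        ← GrassFlag.quotBC_quotBC (rfl : φ ≫ π = φ ≫ π) hh' hg hgg' p u]
    have keyc : ∀ (h' : T ⟶ F') (hh' : h' ≫ φ = h₀) (hgg' : h' ≫ φ ≫ π = g) (i : Fin j),
        quotBC hgg' (q2 (Fin.castSucc i)) = quotBC hg (q i) ≫
          quotBC hh' (𝟙 ((Scheme.Modules.pullback φ).obj (Q i))) ≫ (Scheme.Modules.pullback h').map (eqToHom (hc i).symm) := by
      intro h' hh' hgg' i
      rw [hqc, GrassFlag.quotBC_comp, ← quotBC_two hh' hg hgg' (q i), Category.assoc]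
    refine ⟨h, ⟨hgg, ?_⟩, ?_⟩
    · haveI : ∀ i, IsIso (quotBC hh (𝟙 ((Scheme.Modules.pullback φ).obj (Q i)))) := fun i => ProjBd.isIso_quotBC_id _
      refine ⟨Fin.lastCases ((Scheme.Modules.pullback h).mapIso (eqToIso hl) ≪≫ e)
        (fun i => (Scheme.Modules.pullback h).mapIso (eqToIso (hc i)) ≪≫
          (asIso (quotBC hh (𝟙 ((Scheme.Modules.pullback φ).obj (Q i))))).symm ≪≫ e₀ i), fun i => ?_⟩
      refine Fin.lastCases ?_ (fun i => ?_) i
      · simp only [Fin.lastCases_last, Iso.trans_hom, Functor.mapIso_hom, eqToIso.hom]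
        rw [key h hh hgg]
        refine (cancel_map _ _ _ _ _ (by simp) _).trans ?_
        refine Eq.trans ?_ hb
        exact congrArg (quotBC hg p ≫ ·) he
      · simp only [Fin.lastCases_castSucc, Iso.trans_hom, Functor.mapIso_hom, eqToIso.hom, Iso.symm_hom]
        rw [keyc h hh hgg i]
        refine (cancel_map _ _ _ _ _ (by simp) _).trans ?_
        refine Eq.trans ?_ (he₀ i)
        exact congrArg (quotBC hg (q i) ≫ ·)
          ((asIso (quotBC hh (𝟙 ((Scheme.Modules.pullback φ).obj (Q i))))).hom_inv_id_assoc _)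
    · rintro h' ⟨hgg', e', he'⟩
      have hh' : h' ≫ φ = h₀ := by
        haveI : ∀ i, IsIso (quotBC (rfl : h' ≫ φ = h' ≫ φ) (𝟙 ((Scheme.Modules.pullback φ).obj (Q i)))) :=
          fun i => ProjBd.isIso_quotBC_id _
        refine huniq₀ _ ⟨(Category.assoc _ _ _).trans hgg', fun i =>
          asIso (quotBC (rfl : h' ≫ φ = h' ≫ φ) (𝟙 ((Scheme.Modules.pullback φ).obj (Q i)))) ≪≫
            (Scheme.Modules.pullback h').mapIso (eqToIso (hc i).symm) ≪≫ e' (Fin.castSucc i), fun i => ?_⟩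
        rw [← he' (Fin.castSucc i), hqc, GrassFlag.quotBC_comp,
          ← quotBC_two (rfl : h' ≫ φ = h' ≫ φ) ((Category.assoc _ _ _).trans hgg') hgg' (q i)]
        simp only [Iso.trans_hom, Functor.mapIso_hom, eqToIso.hom, asIso_hom, Category.assoc]
      refine huniq h' ⟨hh', (Scheme.Modules.pullback h').mapIso (eqToIso hl.symm) ≪≫ e' (Fin.last j), ?_⟩
      rw [← cancel_epi (quotBC hg p), hb, ← he' (Fin.last j), key h' hh' hgg']
      simp only [Iso.trans_hom, Functor.mapIso_hom, eqToIso.hom, Category.assoc]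

variable {m : ℕ} {N : ℕ}

/-- The module to take quotients of at the next step. -/
theorem exists_prev (hE : FlatMod.IsFinLocFreeOfRank N E) (n : Fin m → ℕ) :
    ∀ (j : ℕ) (hj : j < m) {π : F ⟶ X} {Q : Fin j → F.Modules} {q : ∀ i, (Scheme.Modules.pullback π).obj E ⟶ Q i},
      IsFlag π E (fun i => n (Fin.castLE hj.le i)) Q q →
      ∃ (M : F.Modules) (p : (Scheme.Modules.pullback π).obj E ⟶ M) (_ : Epi p),
        FlatMod.IsFinLocFreeOfRank ((Fin.cons N n : Fin (m + 1) → ℕ) (Fin.castSucc ⟨j, hj⟩)) M ∧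
        (∀ i, ∃ a : Q i ⟶ M, q i ≫ a = p) ∧
        ∀ (T : Scheme.{u}) (h : T ⟶ F) (g : T ⟶ X) (hg : h ≫ π = g) (L : T.Modules)
          (s : (Scheme.Modules.pullback g).obj E ⟶ L), (∀ i, ∃ b, quotBC hg (q i) ≫ b = s) →
            ∃ b, quotBC hg p ≫ b = s := by
  intro j hj π Q q hF
  cases j with
  | zero =>
    refine ⟨_, 𝟙 _, inferInstance, GrassFlag.rank_pullback π hE, fun i => i.elim0, fun T h g hg L s _ => ?_⟩
    haveI : IsIso (quotBC hg (𝟙 ((Scheme.Modules.pullback π).obj E))) := ProjBd.isIso_quotBC_id _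
    exact ⟨inv (quotBC hg (𝟙 ((Scheme.Modules.pullback π).obj E))) ≫ s, IsIso.hom_inv_id_assoc _ _⟩
  | succ j =>
    refine ⟨Q (Fin.last j), q (Fin.last j), hF.epi _, ?_, fun i => hF.nested i _ (Fin.le_last i),
      fun T h g hg L s hb => hb (Fin.last j)⟩
    exact hF.rank (Fin.last j)

/-- The sum of the dimensions of the steps between `k` and `j`. -/
def dims (n : Fin m → ℕ) (N k j : ℕ) : ℕ :=
  ∑ i : Fin m, if k ≤ (i : ℕ) ∧ (i : ℕ) < j then
    n i * ((Fin.cons N n : Fin (m + 1) → ℕ) (Fin.castSucc i) - n i) else 0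

theorem dims_succ (n : Fin m → ℕ) (N k j : ℕ) (hkj : k ≤ j) (hj : j < m) :
    dims n N k (j + 1) = n ⟨j, hj⟩ * ((Fin.cons N n : Fin (m + 1) → ℕ) (Fin.castSucc ⟨j, hj⟩) - n ⟨j, hj⟩) +
      dims n N k j := by
  classical
  have h : ∀ i : Fin m, (if k ≤ (i : ℕ) ∧ (i : ℕ) < j + 1 then
      n i * ((Fin.cons N n : Fin (m + 1) → ℕ) (Fin.castSucc i) - n i) else 0) =
      (if i = ⟨j, hj⟩ then n i * ((Fin.cons N n : Fin (m + 1) → ℕ) (Fin.castSucc i) - n i) else 0) +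
      (if k ≤ (i : ℕ) ∧ (i : ℕ) < j then
        n i * ((Fin.cons N n : Fin (m + 1) → ℕ) (Fin.castSucc i) - n i) else 0) := fun i => by
    by_cases h1 : i = ⟨j, hj⟩
    · subst h1
      rw [if_pos ⟨hkj, Nat.lt_succ_self j⟩, if_pos rfl, if_neg (fun h => lt_irrefl j h.2), add_zero]
    · have h2 : (i : ℕ) ≠ j := fun h => h1 (Fin.ext h)
      rw [if_neg h1, zero_add]
      exact if_congr (by omega) rfl rfl
  rw [dims, Finset.sum_congr rfl fun i _ => h i, Finset.sum_add_distrib, Finset.sum_ite_eq',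
    if_pos (Finset.mem_univ _)]
  rfl

/-- The tower over a truncation. -/
theorem exists_tower (hE : FlatMod.IsFinLocFreeOfRank N E) {n : Fin m → ℕ}
    (hle : ∀ i, n i ≤ (Fin.cons N n : Fin (m + 1) → ℕ) (Fin.castSucc i))
    {k : ℕ} (hk : k ≤ m) {F₀ : Scheme.{u}} {π₀ : F₀ ⟶ X} {Q₀ : Fin k → F₀.Modules}
    {q₀ : ∀ i, (Scheme.Modules.pullback π₀).obj E ⟶ Q₀ i}
    (hF₀ : IsFlag π₀ E (fun i => n (Fin.castLE hk i)) Q₀ q₀) :
    ∀ (j : ℕ) (hkj : k ≤ j) (hj : j ≤ m),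
      ∃ (F : Scheme.{u}) (π : F ⟶ X) (Q : Fin j → F.Modules) (q : ∀ i, (Scheme.Modules.pullback π).obj E ⟶ Q i)
        (_ : IsFlag π E (fun i => n (Fin.castLE hj i)) Q q) (ψ : F ⟶ F₀) (hψ : ψ ≫ π₀ = π),
        (∀ i : Fin k, ∃ e : (Scheme.Modules.pullback ψ).obj (Q₀ i) ≅ Q (Fin.castLE hkj i),
          quotBC hψ (q₀ i) ≫ e.hom = q (Fin.castLE hkj i)) ∧
        SmoothOfRelativeDimension (dims n N k j) ψ ∧ IsProper ψ ∧ Surjective ψ ∧
        (IrreducibleSpace F₀ → IrreducibleSpace F) := by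
  intro j hkj
  induction j, hkj using Nat.le_induction with
  | base =>
    intro hj
    refine ⟨F₀, π₀, Q₀, q₀, hF₀, 𝟙 F₀, Category.id_comp _,
      fun i => ⟨(Scheme.Modules.pullbackId F₀).app _, quotBC_id (q₀ i)⟩, ?_, inferInstance, inferInstance, id⟩
    rw [show dims n N k k = 0 from Finset.sum_eq_zero fun i _ => if_neg (fun h => by omega)]
    infer_instance
  | succ j hkj ih =>
    intro hj
    obtain ⟨F, π, Q, q, hF, ψ, hψ, hcomp, hsm, hpr, hsu, hirr⟩ := ih (Nat.le_of_succ_le hj)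
    obtain ⟨M, p, hp, hM, hpa, hpb⟩ := exists_prev hE n j (Nat.lt_of_succ_le hj) hF
    obtain ⟨F', φ, Q', u, hG⟩ := exists_isGrass M
      (Geom.isQCoh' hM) (n ⟨j, Nat.lt_of_succ_le hj⟩)
    obtain ⟨Q2, q2, hF2, hiso⟩ := isFlag_step (n := fun i : Fin (j + 1) => n (Fin.castLE hj i)) hF p hM hpa hpb hG
    have hr := hle ⟨j, Nat.lt_of_succ_le hj⟩
    refine ⟨F', φ ≫ π, Q2, q2, hF2, φ ≫ ψ, by rw [Category.assoc, hψ], fun i => ?_, ?_, ?_, ?_, fun h => ?_⟩
    · obtain ⟨e, he⟩ := hcomp i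
      obtain ⟨e', he'⟩ := hiso (Fin.castLE hkj i)
      haveI : IsIso (quotBC (rfl : φ ≫ ψ = φ ≫ ψ) e.hom) := by unfold Grass.quotBC; infer_instance
      refine ⟨asIso (quotBC (rfl : φ ≫ ψ = φ ≫ ψ) e.hom) ≪≫ e', ?_⟩
      refine Eq.trans ?_ he'
      rw [Iso.trans_hom, asIso_hom, ← Category.assoc,
        GrassFlag.quotBC_quotBC hψ (rfl : φ ≫ ψ = φ ≫ ψ) _ rfl (q₀ i) e.hom, he]
    · haveI := Geom.smooth hG hM
      haveI := hsm
      rw [dims_succ n N k j hkj (Nat.lt_of_succ_le hj)]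
      infer_instance
    · haveI := Geom.isProper hG hM hr
      haveI := hpr
      infer_instance
    · haveI := Geom.surjective hG hM hr
      haveI := hsu
      infer_instance
    · haveI := hirr h
      exact Geom.irreducibleSpace hG hM hr

/-- Flag schemes of the same type are isomorphic. -/
theorem exists_iso {π : F ⟶ X} {π' : F' ⟶ X} {n : Fin m → ℕ} {Q : Fin m → F.Modules}
    {q : ∀ i, (Scheme.Modules.pullback π).obj E ⟶ Q i} (hF : IsFlag π E n Q q) {Q' : Fin m → F'.Modules}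
    {q' : ∀ i, (Scheme.Modules.pullback π').obj E ⟶ Q' i} (hF' : IsFlag π' E n Q' q') :
    ∃ (h : F ≅ F') (hh : h.hom ≫ π' = π) (e : ∀ i, (Scheme.Modules.pullback h.hom).obj (Q' i) ≅ Q i),
      ∀ i, quotBC hh (q' i) ≫ (e i).hom = q i := by
  have key : ∀ {F F' : Scheme.{u}} {π : F ⟶ X} {π' : F' ⟶ X} {Q : Fin m → F.Modules}
      {q : ∀ i, (Scheme.Modules.pullback π).obj E ⟶ Q i} (hF : IsFlag π E n Q q) {Q' : Fin m → F'.Modules}
      {q' : ∀ i, (Scheme.Modules.pullback π').obj E ⟶ Q' i} (hF' : IsFlag π' E n Q' q')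
      {a : F ⟶ F'} (ha : a ≫ π' = π) (ea : ∀ i, (Scheme.Modules.pullback a).obj (Q' i) ≅ Q i)
      (hea : ∀ i, quotBC ha (q' i) ≫ (ea i).hom = q i) {b : F' ⟶ F} (hb : b ≫ π = π')
      (eb : ∀ i, (Scheme.Modules.pullback b).obj (Q i) ≅ Q' i) (heb : ∀ i, quotBC hb (q i) ≫ (eb i).hom = q' i),
      a ≫ b = 𝟙 F := by
    intro F F' π π' Q q hF Q' q' hF' a ha ea hea b hb eb heb
    haveI : ∀ i, IsIso (quotBC (rfl : a ≫ b = a ≫ b) (eb i).hom) := fun i => by unfold Grass.quotBC; infer_instance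
    have hab : (a ≫ b) ≫ π = π := by rw [Category.assoc, hb, ha]
    refine (hF.univ F π Q hF.rank q hF.epi hF.nested).unique
      ⟨hab, fun i => asIso (quotBC (rfl : a ≫ b = a ≫ b) (eb i).hom) ≪≫ ea i, fun i => ?_⟩
      ⟨Category.id_comp π, fun i => (Scheme.Modules.pullbackId F).app _, fun i => quotBC_id (q i)⟩
    rw [Iso.trans_hom, asIso_hom, ← Category.assoc,
      GrassFlag.quotBC_quotBC hb (rfl : a ≫ b = a ≫ b) hab ha (q i) (eb i).hom, heb, hea]
  obtain ⟨a, ha, ea, hea⟩ := (hF'.univ F π Q hF.rank q hF.epi hF.nested).exists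
  obtain ⟨b, hb, eb, heb⟩ := (hF.univ F' π' Q' hF'.rank q' hF'.epi hF'.nested).exists
  exact ⟨⟨a, b, key hF hF' ha ea hea hb eb heb, key hF' hF hb eb heb ha ea hea⟩, ha, ea, hea⟩

theorem ranks_le {n : Fin m → ℕ} (hn : StrictAnti n) (hN : ∀ i, n i < N) (i : Fin m) :
    n i ≤ (Fin.cons N n : Fin (m + 1) → ℕ) (Fin.castSucc i) := by
  obtain ⟨i, hi⟩ := i
  cases i with
  | zero => exact (hN _).le
  | succ i =>
    show n ⟨i + 1, hi⟩ ≤ n ⟨i, Nat.lt_of_succ_lt hi⟩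
    exact hn.antitone (Fin.mk_le_mk.2 (Nat.le_succ i))

/-- The morphism forgetting the last steps. -/
theorem lift_props (hE : FlatMod.IsFinLocFreeOfRank N E) {n : Fin m → ℕ}
    (hle : ∀ i, n i ≤ (Fin.cons N n : Fin (m + 1) → ℕ) (Fin.castSucc i))
    {k : ℕ} (hk : k ≤ m) {π : F ⟶ X} {Q : Fin m → F.Modules} {q : ∀ i, (Scheme.Modules.pullback π).obj E ⟶ Q i}
    (hF : IsFlag π E n Q q) {F₀ : Scheme.{u}} {π₀ : F₀ ⟶ X} {Q₀ : Fin k → F₀.Modules}
    {q₀ : ∀ i, (Scheme.Modules.pullback π₀).obj E ⟶ Q₀ i}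
    (hF₀ : IsFlag π₀ E (fun i => n (Fin.castLE hk i)) Q₀ q₀) :
    ∃ (a : F ⟶ F₀) (ha : a ≫ π₀ = π) (e : ∀ i, (Scheme.Modules.pullback a).obj (Q₀ i) ≅ Q (Fin.castLE hk i)),
      (∀ i, quotBC ha (q₀ i) ≫ (e i).hom = q (Fin.castLE hk i)) ∧
      SmoothOfRelativeDimension
        (∑ i : Fin m, if k ≤ (i : ℕ) then n i * ((Fin.cons N n : Fin (m + 1) → ℕ) (Fin.castSucc i) - n i) else 0) a ∧
      IsProper a ∧ Surjective a ∧ (IrreducibleSpace F₀ → IrreducibleSpace F) := by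
  obtain ⟨F', π', Q', q', hF', ψ, hψ, hcomp, hsm, hpr, hsu, hirr⟩ := exists_tower hE hle hk hF₀ m hk le_rfl
  obtain ⟨h, hh, eh, heh⟩ := exists_iso hF (n := n) hF'
  choose e he using hcomp
  haveI : ∀ i, IsIso (quotBC (rfl : h.hom ≫ ψ = h.hom ≫ ψ) (e i).hom) := fun i => by unfold Grass.quotBC; infer_instance
  have ha : (h.hom ≫ ψ) ≫ π₀ = π := by rw [Category.assoc, hψ, hh]
  refine ⟨h.hom ≫ ψ, ha, fun i => asIso (quotBC (rfl : h.hom ≫ ψ = h.hom ≫ ψ) (e i).hom) ≪≫ eh (Fin.castLE hk i),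
    fun i => ?_, ?_, ?_, ?_, fun h0 => ?_⟩
  · rw [Iso.trans_hom, asIso_hom, ← Category.assoc,
      GrassFlag.quotBC_quotBC hψ (rfl : h.hom ≫ ψ = h.hom ≫ ψ) ha hh (q₀ i) (e i).hom, he, heh]
  · haveI := hsm
    rw [show (∑ i : Fin m, if k ≤ (i : ℕ) then
        n i * ((Fin.cons N n : Fin (m + 1) → ℕ) (Fin.castSucc i) - n i) else 0) = 0 + dims n N k m by
      rw [zero_add]
      exact Finset.sum_congr rfl fun i _ => if_congr (iff_of_eq (by simp [i.isLt])) rfl rfl]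
    infer_instance
  · haveI := hpr
    infer_instance
  · haveI := hsu
    infer_instance
  · haveI := hirr h0
    refine (irreducibleSpace_def _).2 ?_
    have hs : Function.Surjective h.inv := fun x => ⟨h.hom x, by
      show (h.hom ≫ h.inv) x = x
      rw [h.hom_inv_id]; rfl⟩
    have h' := ((irreducibleSpace_def F').1 inferInstance).image _ h.inv.continuous.continuousOn
    rwa [Set.top_eq_univ, Set.image_univ, hs.range_eq] at h'

theorem irreducibleSpace_flag (hE : FlatMod.IsFinLocFreeOfRank N E) {n : Fin m → ℕ}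
    (hle : ∀ i, n i ≤ (Fin.cons N n : Fin (m + 1) → ℕ) (Fin.castSucc i))
    {π : F ⟶ X} {Q : Fin m → F.Modules} {q : ∀ i, (Scheme.Modules.pullback π).obj E ⟶ Q i}
    (hF : IsFlag π E n Q q) [IrreducibleSpace X] : IrreducibleSpace F := by
  have h0 : IsFlag (𝟙 X) E (fun i : Fin 0 => n (Fin.castLE (Nat.zero_le m) i)) (fun i => i.elim0) (fun i => i.elim0) :=
    ⟨fun i => i.elim0, fun i => i.elim0, fun i => i.elim0, fun T g L _ s _ _ =>
      ⟨g, ⟨Category.comp_id g, fun i => i.elim0, fun i => i.elim0⟩, fun h ⟨hh, _⟩ => by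
        rw [← hh, Category.comp_id]⟩⟩
  obtain ⟨a, ha, e, -, -, -, -, hirr⟩ := lift_props hE hle (Nat.zero_le m) hF h0
  exact hirr ‹_›

end Groth.Agent.H23.GrassExist.FlagGeom
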