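import Groth.Agent.H23.GrassExist.Plucker
import Groth.Agent.PnLight.Chart
import Groth.Agent.H28.PBMake

/-!
Geometry of Grassmannian bundles of locally free modules: smooth, proper, surjective, irreducible.
-/

set_option autoImplicit false
set_option backward.isDefEq.respectTransparency false
set_option backward.isDefEq.respectTransparency.types false
set_option linter.style.haveILetI false
set_option linter.unusedSectionVars false

universe u

open CategoryTheory CategoryTheory.Limits AlgebraicGeometry TopologicalSpace Opposite MvPolynomial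

noncomputable section

namespace Groth.Agent.H23.GrassExist.Geom

open Groth.Agent Groth.Agent.QuotFunLib Grass

variable {X G : Scheme.{u}} {E : X.Modules} {r N : ℕ}

/-- The chart embeds as the open of quotients in which the given sections are a basis. -/
theorem exists_chart {π : G ⟶ X} {Q : G.Modules} {q : (Scheme.Modules.pullback π).obj E ⟶ Q}
    (hE : Coh.IsQCoh E) (hG : Grass.IsGrass π E r Q q) {U : X.Opens} (hU : IsAffineOpen U) (s : Fin r → Γ(E, U))
    {tU : (Scheme.Modules.pullback (chartQ E U s hU)).obj E ⟶ FlatMod.freeMod (Spec (chartRing E U s)) r}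
    (htU : IsChartQuot E U s hU tU) :
    ∃ (j : Spec (chartRing E U s) ⟶ G) (hj : j ≫ π = chartQ E U s hU)
      (ej : (Scheme.Modules.pullback j).obj Q ≅ FlatMod.freeMod (Spec (chartRing E U s)) r),
      quotBC hj q ≫ ej.hom = tU ∧ IsOpenImmersion j ∧ Set.range j = {z | InW U s π q z} := by
  classical
  haveI := hG.epi
  haveI := univ_epi E U s hU htU
  obtain ⟨j, ⟨hj, ej, hej⟩, -⟩ := hG.univ _ (chartQ E U s hU) _ (freeMod_rank _ r) tU inferInstance
  let T : G.Opens := ⟨{z | InW U s π q z}, isOpen_inW hG.rank q⟩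
  let gT : T.toScheme ⟶ X := T.ι ≫ π
  let t₁ := quotBC (rfl : T.ι ≫ π = gT) q
  haveI : Epi t₁ := GrassFlag.epi_quotBC _ q
  have hrankT := GrassFlag.rank_pullback T.ι hG.rank
  obtain ⟨d, hd, ed, hed⟩ := chart_lift E U s hU htU hE hrankT t₁
    fun y => (inW_quotBC_iff (rfl : T.ι ≫ π = gT) hG.rank q y).2 y.2
  have hjT : Set.range j ⊆ Set.range T.ι := by
    rintro _ ⟨y, rfl⟩
    rw [Scheme.Opens.range_ι]
    exact (inW_quotBC_iff hj hG.rank q y).1 ((univ_inW E U s hU htU y).iso ej.symm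
      (by rw [Iso.symm_hom, ← hej, Category.assoc, ej.hom_inv_id, Category.comp_id]))
  let j' := IsOpenImmersion.lift T.ι j hjT
  have hj' : j' ≫ T.ι = j := IsOpenImmersion.lift_fac _ _ _
  have hdj : d ≫ j' = 𝟙 _ := by
    rw [← cancel_mono T.ι, Category.assoc, hj', Category.id_comp]
    obtain ⟨h₀, -, huniq⟩ := hG.univ _ gT _ hrankT t₁ inferInstance
    have hdjπ : (d ≫ j) ≫ π = gT := by rw [Category.assoc, hj, hd]
    haveI : IsIso (quotBC (rfl : d ≫ j = d ≫ j) ej.hom) := by unfold Grass.quotBC; infer_instance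
    refine (huniq (d ≫ j) ⟨hdjπ, asIso (quotBC (rfl : d ≫ j = d ≫ j) ej.hom) ≪≫ ed, ?_⟩).trans
      (huniq T.ι ⟨rfl, Iso.refl _, Category.comp_id _⟩).symm
    show quotBC hdjπ q ≫ quotBC (rfl : d ≫ j = d ≫ j) ej.hom ≫ ed.hom = t₁
    rw [← Category.assoc, GrassFlag.quotBC_quotBC hj rfl hdjπ hd q ej.hom, hej]
    exact hed
  have hjd : j' ≫ d = 𝟙 _ := by
    have h1 : (j' ≫ d) ≫ chartQ E U s hU = 𝟙 _ ≫ chartQ E U s hU := by
      rw [Category.assoc, hd, Category.id_comp, ← Category.assoc, hj', hj]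
    have hjT' : j' ≫ gT = 𝟙 _ ≫ chartQ E U s hU := by rw [← Category.assoc, hj', hj, Category.id_comp]
    have hjπ : j ≫ π = 𝟙 _ ≫ chartQ E U s hU := by rw [hj, Category.id_comp]
    haveI : IsIso (quotBC (rfl : j' ≫ d = j' ≫ d) ed.hom) := by unfold Grass.quotBC; infer_instance
    haveI : IsIso (quotBC hj' (𝟙 ((Scheme.Modules.pullback T.ι).obj Q))) := ProjBd.isIso_quotBC_id _
    refine chart_mono E U s hU htU (j' ≫ d) (𝟙 _) h1
      (asIso (quotBC (rfl : j' ≫ d = j' ≫ d) ed.hom) ≪≫ (asIso (quotBC hj' (𝟙 ((Scheme.Modules.pullback T.ι).obj Q)))).symm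
        ≪≫ ej ≪≫ ((Scheme.Modules.pullbackId _).app _).symm) ?_
    simp only [Iso.trans_hom, asIso_hom]
    rw [← Category.assoc, GrassFlag.quotBC_quotBC hd rfl h1 hjT' tU ed.hom, hed]
    have key := GrassFlag.quotBC_quotBC (rfl : T.ι ≫ π = gT) hj' hjπ hjT' q (𝟙 _)
    rw [Category.comp_id] at key
    have key' : quotBC hjT' t₁ ≫ (asIso (quotBC hj' (𝟙 ((Scheme.Modules.pullback T.ι).obj Q)))).symm.hom =
        quotBC hjπ q := by
      rw [Iso.symm_hom, Iso.comp_inv_eq]
      exact key.symm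
    rw [← Category.assoc, key', ← Category.assoc, Iso.symm_hom, Iso.comp_inv_eq, Iso.app_hom]
    refine Eq.trans ?_ (Eq.trans hej ?_)
    · rfl
    · exact (quotBC_id tU).symm
  haveI : IsIso j' := ⟨d, hjd, hdj⟩
  refine ⟨j, hj, ej, hej, by rw [← hj']; infer_instance, ?_⟩
  refine subset_antisymm (hjT.trans (Scheme.Opens.range_ι T).le) fun z hz => ⟨d ⟨z, hz⟩, ?_⟩
  rw [← hj']
  show ((d ≫ j') ≫ T.ι) ⟨z, hz⟩ = z
  rw [hdj, Category.id_comp]
  rfl

section Frame

variable {U : X.Opens} (b : Fin N → Γ(E, U)) (σ : Fin r → Fin N)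

/-- The free variables of a chart at a coordinate set. -/
abbrev Var : Type := {c : Fin N // c ∉ Set.range σ} × Fin r

theorem natCard_var (hσ : Function.Injective σ) : Nat.card (Var σ) = r * (N - r) := by
  classical
  rw [Nat.card_eq_fintype_card, Fintype.card_prod, Fintype.card_fin, Fintype.card_subtype_compl, Fintype.card_fin,
    show Fintype.card {c : Fin N // c ∈ Set.range σ} = r from
      (Fintype.card_congr (Equiv.ofInjective σ hσ)).symm.trans (Fintype.card_fin r), mul_comm]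

variable {b σ}

/-- A frame over `U` gives a basis of the sections. -/
theorem exists_basis_sections (hb : Frame.IsFrame E b) :
    ∃ β : Module.Basis (Fin N) Γ(X, U) Γ(E, U), ∀ c, β c = b c := by
  refine ⟨H28.ExtBase.frameBasis hb le_rfl, fun c => ?_⟩
  exact (H28.ExtBase.frameBasis_apply hb le_rfl c).trans (QCoh.map_id' _ _)

/-- For a frame, the chart is an affine space. -/
theorem exists_ringEquiv (hb : Frame.IsFrame E b) (hσ : Function.Injective σ) :
    ∃ e : MvPolynomial (Var σ) Γ(X, U) ≃+* chartRing E U (b ∘ σ),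
      (∀ a, e (C a) = chartC E U (b ∘ σ) a) ∧ ∀ p : Var σ, e (MvPolynomial.X p) = psi E U (b ∘ σ) (b p.1.1) p.2 := by
  classical
  obtain ⟨β, hβ⟩ := exists_basis_sections hb
  let y : Fin N → Fin r → MvPolynomial (Var σ) Γ(X, U) := fun c l =>
    if h : c ∈ Set.range σ then (if c = σ l then 1 else 0) else MvPolynomial.X (⟨c, h⟩, l)
  let v : Γ(E, U) → Fin r → CommRingCat.of (MvPolynomial (Var σ) Γ(X, U)) := fun m l =>
    ∑ c, C (β.repr m c) * y c l
  obtain ⟨φ, hφ1, hφ2⟩ := exists_desc_chart E U (b ∘ σ) (CommRingCat.ofHom C) v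
    (fun m m' l => by
      show ∑ c, C (β.repr (m + m') c) * y c l = _
      simp only [map_add, Finsupp.add_apply, add_mul, Finset.sum_add_distrib]
      rfl)
    (fun a m l => by
      show ∑ c, C (β.repr (a • m) c) * y c l = C a * ∑ c, C (β.repr m c) * y c l
      simp only [map_smul, Finsupp.smul_apply, smul_eq_mul, map_mul, Finset.mul_sum, mul_assoc])
    (fun k l => by
      show ∑ c, C (β.repr (b (σ k)) c) * y c l = _
      rw [← hβ, Module.Basis.repr_self, Finset.sum_eq_single (σ k)]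
      · rw [Finsupp.single_eq_same, map_one, one_mul]
        simp only [y, dif_pos (Set.mem_range_self k), hσ.eq_iff]
      · intro c _ hc
        rw [Finsupp.single_eq_of_ne hc, map_zero, zero_mul]
      · intro h; exact absurd (Finset.mem_univ _) h)
  let ψ : CommRingCat.of (MvPolynomial (Var σ) Γ(X, U)) ⟶ chartRing E U (b ∘ σ) :=
    CommRingCat.ofHom (eval₂Hom (chartC E U (b ∘ σ)).hom fun p => psi E U (b ∘ σ) (b p.1.1) p.2)
  have hψC : ∀ a, ψ (C a) = chartC E U (b ∘ σ) a := fun a => eval₂Hom_C _ _ a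
  have hψX : ∀ p : Var σ, ψ (MvPolynomial.X p) = psi E U (b ∘ σ) (b p.1.1) p.2 := fun p => eval₂Hom_X' _ _ p
  have hy : ∀ c l, ψ (y c l) = psi E U (b ∘ σ) (b c) l := fun c l => by
    by_cases h : c ∈ Set.range σ
    · obtain ⟨k, rfl⟩ := h
      simp only [y, dif_pos (Set.mem_range_self k), hσ.eq_iff]
      refine Eq.trans ?_ (psi_delta E U (b ∘ σ) k l).symm
      split_ifs
      · exact map_one ψ.hom
      · exact map_zero ψ.hom
    · simp only [y, dif_neg h]
      exact hψX (⟨c, h⟩, l)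
  have h1 : φ ≫ ψ = 𝟙 _ := by
    refine chart_hom_ext E U (b ∘ σ) ?_ fun m l => ?_
    · rw [← Category.assoc, hφ1, Category.comp_id]
      ext a
      exact hψC a
    · show ψ (φ (psi E U (b ∘ σ) m l)) = psi E U (b ∘ σ) m l
      rw [hφ2]
      show ψ.hom (∑ c, C (β.repr m c) * y c l) = _
      let P : Γ(E, U) →+ chartRing E U (b ∘ σ) :=
        AddMonoidHom.mk' (fun m => psi E U (b ∘ σ) m l) fun a c => psi_add E U (b ∘ σ) a c l
      conv_rhs => rw [← β.sum_repr m, show psi E U (b ∘ σ) (∑ c, β.repr m c • β c) l = P (∑ c, β.repr m c • β c) from rfl,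
        map_sum]
      rw [map_sum]
      refine Finset.sum_congr rfl fun c _ => ?_
      rw [map_mul, show ψ.hom (C (β.repr m c)) = _ from hψC _, show ψ.hom (y c l) = _ from hy c l]
      refine Eq.trans ?_ (psi_smul E U (b ∘ σ) _ (β c) l).symm
      rw [hβ]
  have h2 : ψ ≫ φ = 𝟙 _ := by
    refine CommRingCat.hom_ext (MvPolynomial.ringHom_ext (fun a => ?_) fun p => ?_)
    · show φ (ψ (C a)) = C a
      rw [hψC]
      exact congr($hφ1 a)
    · show φ (ψ (MvPolynomial.X p)) = MvPolynomial.X p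
      rw [hψX, hφ2]
      show ∑ c, C (β.repr (b p.1.1) c) * y c p.2 = _
      rw [← hβ, Module.Basis.repr_self, Finset.sum_eq_single p.1.1]
      · rw [Finsupp.single_eq_same, map_one, one_mul]
        simp only [y, dif_neg p.1.2]
      · intro c _ hc
        rw [Finsupp.single_eq_of_ne hc, map_zero, zero_mul]
      · intro h; exact absurd (Finset.mem_univ _) h
  exact ⟨RingEquiv.ofRingHom ψ.hom φ.hom (congrArg CommRingCat.Hom.hom h1) (congrArg CommRingCat.Hom.hom h2),
    hψC, hψX⟩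

theorem smooth_chartQ (hU : IsAffineOpen U) (hb : Frame.IsFrame E b) (hσ : Function.Injective σ) :
    SmoothOfRelativeDimension (r * (N - r)) (chartQ E U (b ∘ σ) hU) := by
  obtain ⟨e, he, -⟩ := exists_ringEquiv hb hσ
  letI : Algebra Γ(X, U) (chartRing E U (b ∘ σ)) := (chartC E U (b ∘ σ)).hom.toAlgebra
  haveI := PnLight.isStandardSmooth_mvPolynomial Γ(X, U) (Var σ)
  haveI hst : Algebra.IsStandardSmoothOfRelativeDimension (Nat.card (Var σ)) Γ(X, U) (chartRing E U (b ∘ σ)) :=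
    Algebra.IsStandardSmoothOfRelativeDimension.of_algEquiv _ (AlgEquiv.ofRingEquiv (f := e) he)
  haveI : SmoothOfRelativeDimension (r * (N - r)) (Spec.map (chartC E U (b ∘ σ))) := by
    rw [HasRingHomProperty.Spec_iff (P := @SmoothOfRelativeDimension (r * (N - r)))]
    refine RingHom.locally_of RingHom.isStandardSmoothOfRelativeDimension_respectsIso _ ?_
    rw [← natCard_var σ hσ]
    exact hst
  exact inferInstanceAs (SmoothOfRelativeDimension (r * (N - r) + 0) (Spec.map (chartC E U (b ∘ σ)) ≫ hU.fromSpec))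

theorem surjective_spec_chartC (hb : Frame.IsFrame E b) (hσ : Function.Injective σ) (a : Var σ → Γ(X, U)) :
    ∃ φ : chartRing E U (b ∘ σ) ⟶ Γ(X, U), chartC E U (b ∘ σ) ≫ φ = 𝟙 _ ∧
      ∀ p : Var σ, φ (psi E U (b ∘ σ) (b p.1.1) p.2) = a p := by
  obtain ⟨e, he, he'⟩ := exists_ringEquiv hb hσ
  refine ⟨CommRingCat.ofHom ((eval₂Hom (RingHom.id Γ(X, U)) a).comp e.symm.toRingHom), ?_, fun p => ?_⟩
  · ext c
    show eval₂Hom (RingHom.id Γ(X, U)) a (e.symm (chartC E U (b ∘ σ) c)) = c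
    rw [← he, RingEquiv.symm_apply_apply, eval₂Hom_C]
    rfl
  · show eval₂Hom (RingHom.id Γ(X, U)) a (e.symm (psi E U (b ∘ σ) (b p.1.1) p.2)) = a p
    rw [← he', RingEquiv.symm_apply_apply, eval₂Hom_X']

theorem irreducibleSpace_mvPolynomial {R : Type u} [CommRing R] (ι : Type) [IrreducibleSpace (PrimeSpectrum R)] :
    IrreducibleSpace (PrimeSpectrum (MvPolynomial ι R)) := by
  have hP : (nilradical R).IsPrime := (PrimeSpectrum.irreducibleSpace_iff_isPrime_nilradical (R := R)).1 ‹_›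
  let f : MvPolynomial ι R →+* MvPolynomial ι (R ⧸ nilradical R) := MvPolynomial.map (Ideal.Quotient.mk _)
  have hf : Function.Surjective f := MvPolynomial.map_surjective _ Ideal.Quotient.mk_surjective
  have hker : RingHom.ker f ≤ nilradical (MvPolynomial ι R) := fun p hp => by
    rw [mem_nilradical, MvPolynomial.isNilpotent_iff]
    intro d
    rw [← mem_nilradical]
    refine Ideal.Quotient.eq_zero_iff_mem.1 ?_
    have h0 : f p = 0 := hp
    have := congrArg (MvPolynomial.coeff d) h0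
    rwa [MvPolynomial.coeff_map, MvPolynomial.coeff_zero] at this
  haveI : IsDomain (R ⧸ nilradical R) := Ideal.Quotient.isDomain _
  have hs : Function.Surjective (PrimeSpectrum.comap f) := fun x => by
    have hx : x ∈ Set.range (PrimeSpectrum.comap f) := by
      rw [range_comap_of_surjective _ _ hf]
      exact fun p hp => nilradical_le_prime x.asIdeal (hker hp)
    exact hx
  refine (irreducibleSpace_def _).2 ?_
  have h := ((irreducibleSpace_def (PrimeSpectrum (MvPolynomial ι (R ⧸ nilradical R)))).1 inferInstance).image _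
    (PrimeSpectrum.continuous_comap f).continuousOn
  rwa [Set.top_eq_univ, Set.image_univ, hs.range_eq] at h

theorem irreducibleSpace_chart (hb : Frame.IsFrame E b) (hσ : Function.Injective σ) (hU : IsAffineOpen U)
    [IrreducibleSpace X] (hne : (U : Set X).Nonempty) : IrreducibleSpace (Spec (chartRing E U (b ∘ σ))) := by
  haveI : IrreducibleSpace (PrimeSpectrum Γ(X, U)) := by
    obtain ⟨x, hx⟩ := hne
    haveI : Nonempty (PrimeSpectrum Γ(X, U)) := ⟨hU.primeIdealOf ⟨x, hx⟩⟩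
    refine (irreducibleSpace_def _).2 ⟨Set.univ_nonempty, ?_⟩
    have h := (PreirreducibleSpace.isPreirreducible_univ (X := X)).preimage hU.fromSpec.isOpenEmbedding
    rwa [Set.preimage_univ] at h
  haveI := irreducibleSpace_mvPolynomial (R := Γ(X, U)) (Var σ)
  obtain ⟨e, -, -⟩ := exists_ringEquiv hb hσ
  refine (irreducibleSpace_def _).2 ?_
  have h := ((irreducibleSpace_def (PrimeSpectrum (MvPolynomial (Var σ) Γ(X, U)))).1 inferInstance).image _
    (PrimeSpectrum.continuous_comap e.symm.toRingHom).continuousOn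
  rw [Set.top_eq_univ, Set.image_univ, Function.Surjective.range_eq (fun x => ⟨PrimeSpectrum.comap e.toRingHom x, by
    rw [← PrimeSpectrum.comap_comp_apply]; simp⟩)] at h
  exact h

end Frame

theorem isPreirreducible_iUnion {α ι : Type*} [TopologicalSpace α] (S : ι → Set α) (ho : ∀ i, IsOpen (S i))
    (hi : ∀ i, IsPreirreducible (S i)) (hne : ∀ i j, (S i).Nonempty → (S j).Nonempty → (S i ∩ S j).Nonempty) :
    IsPreirreducible (⋃ i, S i) := by
  rintro A B hA hB ⟨a, haS, haA⟩ ⟨c, hcS, hcB⟩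
  obtain ⟨i, hai⟩ := Set.mem_iUnion.1 haS
  obtain ⟨j, hcj⟩ := Set.mem_iUnion.1 hcS
  obtain ⟨w, hwi, hwA, hwj⟩ := hi i A (S j) hA (ho j) ⟨a, hai, haA⟩ (hne i j ⟨a, hai⟩ ⟨c, hcj⟩)
  obtain ⟨z, hzj, hzA, hzB⟩ := hi j A B hA hB ⟨w, hwj, hwA⟩ ⟨c, hcj, hcB⟩
  exact ⟨z, Set.mem_iUnion.2 ⟨j, hzj⟩, hzA, hzB⟩

/-- Two coordinate sets of the same size have a common complement. -/
theorem exists_common [Nonempty (Fin r)] (σ τ : Fin r → Fin N) (hσ : Function.Injective σ) (hτ : Function.Injective τ) :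
    ∃ a : Fin N → Fin r, (∀ k, a (σ k) = k) ∧ Function.Bijective (a ∘ τ) := by
  classical
  let A : Finset (Fin N) := Finset.univ.image σ
  let B : Finset (Fin N) := Finset.univ.image τ
  have hAB : (A \ B).card = (B \ A).card := Finset.card_sdiff_comm (by
    rw [Finset.card_image_of_injective _ hσ, Finset.card_image_of_injective _ hτ])
  let π : (B \ A : Finset (Fin N)) ≃ (A \ B : Finset (Fin N)) := Finset.equivOfCardEq hAB.symm
  let a : Fin N → Fin r := fun c =>
    if h : c ∈ B \ A then Function.invFun σ (π ⟨c, h⟩).1 else Function.invFun σ c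
  have ha : ∀ k, a (σ k) = k := fun k => by
    simp only [a, dif_neg (show σ k ∉ B \ A from fun h =>
      (Finset.mem_sdiff.1 h).2 (Finset.mem_image.2 ⟨k, Finset.mem_univ k, rfl⟩))]
    exact Function.leftInverse_invFun hσ k
  refine ⟨a, ha, Finite.injective_iff_bijective.1 fun k k' hk => hτ ?_⟩
  let h : Fin N → Fin N := fun c => if hc : c ∈ B \ A then (π ⟨c, hc⟩).1 else c
  have hh : ∀ k, σ (a (τ k)) = h (τ k) := fun k => by
    by_cases hc : τ k ∈ B \ A
    · simp only [a, h, dif_pos hc]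
      obtain ⟨l, -, hl⟩ := Finset.mem_image.1 (Finset.mem_sdiff.1 (π ⟨τ k, hc⟩).2).1
      exact Function.invFun_eq ⟨l, hl⟩
    · simp only [a, h, dif_neg hc]
      have hB : τ k ∈ B := Finset.mem_image.2 ⟨k, Finset.mem_univ k, rfl⟩
      obtain ⟨l, -, hl⟩ := Finset.mem_image.1
        (not_not.1 fun hA : τ k ∉ A => hc (Finset.mem_sdiff.2 ⟨hB, hA⟩))
      exact Function.invFun_eq ⟨l, hl⟩
  have h0 : h (τ k) = h (τ k') := by rw [← hh, ← hh]; exact congrArg σ hk
  have hBk : ∀ k, τ k ∈ B := fun k => Finset.mem_image.2 ⟨k, Finset.mem_univ k, rfl⟩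
  by_cases h1 : τ k ∈ B \ A <;> by_cases h2 : τ k' ∈ B \ A <;> simp only [h, dif_pos, dif_neg, h1, h2, not_false_iff] at h0
  · exact congrArg Subtype.val (π.injective (Subtype.ext h0))
  · exact absurd (h0 ▸ hBk k') (Finset.mem_sdiff.1 (π ⟨τ k, h1⟩).2).2
  · exact absurd (h0.symm ▸ hBk k) (Finset.mem_sdiff.1 (π ⟨τ k', h2⟩).2).2
  · exact h0

/-- A point of one chart which lies in another. -/
theorem inW_other {U : X.Opens} {b : Fin N → Γ(E, U)} {σ τ : Fin r → Fin N} (hU : IsAffineOpen U)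
    {tU : (Scheme.Modules.pullback (chartQ E U (b ∘ σ) hU)).obj E ⟶ FlatMod.freeMod (Spec (chartRing E U (b ∘ σ))) r}
    (htU : IsChartQuot E U (b ∘ σ) hU tU) (φ : chartRing E U (b ∘ σ) ⟶ Γ(X, U))
    (hφ : chartC E U (b ∘ σ) ≫ φ = 𝟙 _) {a : Fin N → Fin r}
    (hφ' : ∀ p : Var σ, φ (psi E U (b ∘ σ) (b p.1.1) p.2) = if a p.1.1 = p.2 then 1 else 0)
    (haσ : ∀ k, a (σ k) = k) (haτ : Function.Bijective (a ∘ τ)) (y : Spec Γ(X, U)) :
    InW U (b ∘ τ) (chartQ E U (b ∘ σ) hU) tU (Spec.map φ y) := by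
  classical
  let z := Spec.map φ y
  have hval : ∀ c (l : Fin r), φ (psi E U (b ∘ σ) (b c) l) = if a c = l then 1 else 0 := fun c l => by
    by_cases hc : c ∈ Set.range σ
    · obtain ⟨k, rfl⟩ := hc
      rw [show b (σ k) = (b ∘ σ) k from rfl, psi_delta, haσ]
      split_ifs
      · exact map_one φ.hom
      · exact map_zero φ.hom
    · exact hφ' (⟨c, hc⟩, l)
  have hq : Spec.map φ ≫ chartQ E U (b ∘ σ) hU = hU.fromSpec := by
    rw [chartQ, ← Category.assoc, ← Spec.map_comp, hφ, Spec.map_id, Category.id_comp]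
  have hy : hU.fromSpec y ∈ U := by rw [← hq]; exact chartQ_mem E U (b ∘ σ) hU z
  have hval' : ∀ c, vm (quotBC hq tU) y hy (b c) =
      pmAt (Spec.map φ) _ y rfl (stdGerm (Spec (chartRing E U (b ∘ σ))) r (a c) (Spec.map φ y)) := fun c => by
    have hc : ∀ l, ringAt (Spec.map φ) y rfl ((Spec (chartRing E U (b ∘ σ))).presheaf.germ ⊤ (Spec.map φ y) trivial
        (psiSec E U (b ∘ σ) (b c) l)) = if a c = l then 1 else 0 := fun l => by
      refine (Pl.germ_appTop (Spec.map φ) y _).symm.trans ?_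
      have h1 : (Spec.map φ).appTop (psiSec E U (b ∘ σ) (b c) l) =
          (Scheme.ΓSpecIso Γ(X, U)).inv (φ (psi E U (b ∘ σ) (b c) l)) :=
        (congr($(Scheme.ΓSpecIso_inv_naturality φ) (psi E U (b ∘ σ) (b c) l))).symm
      rw [h1, hval]
      split_ifs <;> simp
    rw [chart_coef E U (b ∘ σ) hU htU (Spec.map φ) hq y hy]
    simp only [hc, ite_smul, one_smul, zero_smul, Finset.sum_ite_eq, Finset.mem_univ, if_true]
  refine (inW_quotBC_iff hq (freeMod_rank _ r) tU y).1 ⟨hy, ?_⟩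
  have hsσ := (inW_pulled E U (b ∘ σ) hU htU (Spec.map φ) hq y).snd
  rw [← hsσ]
  refine congrArg _ (subset_antisymm ?_ ?_)
  · rintro _ ⟨k, rfl⟩
    refine ⟨a (τ k), ?_⟩
    show vm (quotBC hq tU) y hy (b (σ (a (τ k)))) = vm (quotBC hq tU) y hy (b (τ k))
    rw [hval', hval', haσ]
  · rintro _ ⟨k, rfl⟩
    obtain ⟨l, rfl⟩ := haτ.2 k
    refine ⟨l, ?_⟩
    show vm (quotBC hq tU) y hy (b (τ l)) = vm (quotBC hq tU) y hy (b (σ (a (τ l))))
    rw [hval', hval', haσ]

section Bundle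

variable {π : G ⟶ X} {Q : G.Modules} {q : (Scheme.Modules.pullback π).obj E ⟶ Q} (hG : Grass.IsGrass π E r Q q)
  (hE : FlatMod.IsFinLocFreeOfRank N E)

include hE in
theorem isQCoh' : Coh.IsQCoh E :=
  QCoh.isQCoh_of_isFinLocFree fun x => by obtain ⟨U, hx, e⟩ := hE x; exact ⟨U, N, hx, e⟩

include hE in
theorem exists_affine_frame (x : X) :
    ∃ (U : X.Opens) (b : Fin N → Γ(E, U)), IsAffineOpen U ∧ x ∈ U ∧ Frame.IsFrame E b := by
  obtain ⟨V, hx, ⟨e⟩⟩ := hE x
  obtain ⟨b, hb⟩ := Frame.exists_frame e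
  obtain ⟨_, ⟨U, hU, rfl⟩, hxU, hUV⟩ := X.isBasis_affineOpens.exists_subset_of_mem_open hx V.isOpen
  exact ⟨U, _, hU, hxU, hb.res hUV⟩

include hG in
theorem exists_coord {U : X.Opens} (hU : IsAffineOpen U) {b : Fin N → Γ(E, U)} (hb : Frame.IsFrame E b)
    (hE' : Coh.IsQCoh E) (z : G) (hz : π z ∈ U) :
    ∃ σ : Fin r → Fin N, Function.Injective σ ∧ InW U (b ∘ σ) π q z := by
  haveI := hG.epi
  obtain ⟨β, hβ⟩ := exists_basis_sections hb
  obtain ⟨B⟩ := CurveTensor.exists_basis_stalk hG.rank z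
  have hsp : Submodule.span (G.presheaf.stalk z) (Set.range fun c : Fin N => vm q z hz (b c)) = ⊤ := by
    refine eq_top_iff.2 fun v hv0 => ?_
    clear hv0
    obtain ⟨n, rfl⟩ := smap_surjective q z v
    have hn : n ∈ Submodule.span (G.presheaf.stalk z) (Set.range (pmAt π E z rfl)) := by
      rw [span_range_pmAt]; trivial
    induction hn using Submodule.span_induction with
    | mem n hn =>
      obtain ⟨e, rfl⟩ := hn
      letI := QCoh.stalkModule E hz
      haveI := QCoh.isLocalizedModule_germLin hE' hU hz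
      obtain ⟨⟨m, a⟩, hma⟩ := IsLocalizedModule.surj (hU.primeIdealOf ⟨π z, hz⟩).asIdeal.primeCompl
        (QCoh.germLin E hz) e
      have ha : IsUnit (X.presheaf.germ U (π z) hz (a : Γ(X, U))) :=
        (X.mem_basicOpen _ (π z) hz).1 ((QCoh.mem_basicOpen_iff_notMem hU hz _).2 a.2)
      have h1 : X.presheaf.germ U (π z) hz (a : Γ(X, U)) • e = E.presheaf.germ U (π z) hz m := hma
      have h2 : ringAt π z rfl (X.presheaf.germ U (π z) hz (a : Γ(X, U))) • smap q z (pmAt π E z rfl e) =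
          vm q z hz m := by
        rw [vm, ← h1, pmAt_smul, map_smul]
      obtain ⟨a', ha'⟩ := (ha.map (ringAt π z rfl)).exists_left_inv
      rw [← one_smul (G.presheaf.stalk z) (smap q z _), ← ha', mul_smul, h2]
      refine Submodule.smul_mem _ _ ?_
      have hm : m ∈ Submodule.span Γ(X, U) (Set.range b) := by
        rw [show b = ⇑β from funext fun c => (hβ c).symm, β.span_eq]; trivial
      clear h2 h1 hma
      induction hm using Submodule.span_induction with
      | mem m hm => obtain ⟨c, rfl⟩ := hm; exact Submodule.subset_span ⟨c, rfl⟩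
      | zero => rw [vm, map_zero, pmAt_zero, map_zero]; exact zero_mem _
      | add c d _ _ hc hd => rw [Pl.vm_add]; exact add_mem hc hd
      | smul c d _ hd => rw [Pl.vm_smul]; exact Submodule.smul_mem _ _ hd
    | zero => rw [map_zero]; exact zero_mem _
    | add x y _ _ hx hy => rw [map_add]; exact add_mem hx hy
    | smul c x _ hx => rw [map_smul]; exact Submodule.smul_mem _ _ hx
  obtain ⟨v, hv, hvs⟩ := exists_span_of_span B _ hsp
  choose σ hσ using hv
  obtain ⟨B', hB'⟩ := Pl.span_eq_top_basis B v hvs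
  refine ⟨σ, fun k k' h => B'.injective ?_, hz, ?_⟩
  · rw [hB', ← hσ k, ← hσ k', h]
  · show Submodule.span _ (Set.range fun k => vm q z hz (b (σ k))) = ⊤
    rw [show (fun k => vm q z hz (b (σ k))) = v from funext hσ]
    exact hvs

include hG hE

/-- Grassmannian bundles are smooth. -/
theorem smooth : SmoothOfRelativeDimension (r * (N - r)) π := by
  classical
  choose U b hU hxU hb using exists_affine_frame hE
  have hE' := isQCoh' hE
  let ι := Σ x : X, {σ : Fin r → Fin N // Function.Injective σ}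
  choose tU htU using fun i : ι => exists_univ_quot E (U i.1) (b i.1 ∘ i.2.1) (hU i.1) hE'
  choose j hj ej hej hjo hjr using fun i : ι => exists_chart hE' hG (hU i.1) (b i.1 ∘ i.2.1) (htU i)
  let 𝒰 : G.OpenCover := .mkOfCovers ι (fun i => Spec (chartRing E (U i.1) (b i.1 ∘ i.2.1))) j
    (fun z => by
      obtain ⟨σ, hσ, hz⟩ := exists_coord hG (hU (π z)) (hb (π z)) hE' z (hxU (π z))
      have : z ∈ Set.range (j ⟨π z, σ, hσ⟩) := by rw [hjr]; exact hz
      obtain ⟨y, hy⟩ := this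
      exact ⟨⟨π z, σ, hσ⟩, y, hy⟩)
    hjo
  refine (IsZariskiLocalAtSource.iff_of_openCover (P := @SmoothOfRelativeDimension (r * (N - r))) 𝒰).2 fun i => ?_
  show SmoothOfRelativeDimension _ (j i ≫ π)
  rw [hj]
  exact smooth_chartQ (hU _) (hb _) i.2.2

/-- Grassmannian bundles are surjective. -/
theorem surjective (hrN : r ≤ N) : Surjective π := by
  refine ⟨fun x => ?_⟩
  obtain ⟨U, b, hU, hx, hb⟩ := exists_affine_frame hE x
  have hE' := isQCoh' hE
  let σ : Fin r → Fin N := Fin.castLE hrN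
  obtain ⟨tU, htU⟩ := exists_univ_quot E U (b ∘ σ) hU hE'
  obtain ⟨j, hj, -⟩ := exists_chart hE' hG hU (b ∘ σ) htU
  obtain ⟨φ, hφ, -⟩ := surjective_spec_chartC (b := b) hb (Fin.castLE_injective hrN) fun _ => 0
  refine ⟨j (Spec.map φ (hU.primeIdealOf ⟨x, hx⟩)), ?_⟩
  show (Spec.map φ ≫ j ≫ π) (hU.primeIdealOf ⟨x, hx⟩) = x
  rw [hj, show Spec.map φ ≫ chartQ E U (b ∘ σ) hU = hU.fromSpec from by
    rw [chartQ, ← Category.assoc, ← Spec.map_comp, hφ, Spec.map_id, Category.id_comp]]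
  exact hU.fromSpec_primeIdealOf ⟨x, hx⟩

/-- Grassmannian bundles are proper. -/
theorem isProper (hrN : r ≤ N) : IsProper π := by
  have hVf : FlatMod.IsFinLocFree E := fun x => by
    obtain ⟨U, hx, e⟩ := hE x
    exact ⟨U, N, hx, e⟩
  have hL := H28.ExtSh.isExtPow_L r hVf
  obtain ⟨M, hM⟩ := Pl.exists_rank_L hE hrN (Iso.refl (H28.ExtBase.L E r))
  obtain ⟨P, p, O1, u, hP⟩ := H28.PBMake.exists_isProjBundle
    (QCoh.isQCoh_of_isFinLocFree (H28.ExtSh.isFinLocFree_L r hVf)) fun x => by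
      obtain ⟨U, s, hx, hs⟩ := H28.KvbModel.frameAt_of_rank hM x
      exact ⟨U, M, s, hx, hs⟩
  haveI : IsProper p := ProjBd.isProper_of_projBundle hP hM
  obtain ⟨c, hc, hcp⟩ := Pl.exists_closedImmersion hE hrN hG (Iso.refl _) hL hP
  rw [← hcp]
  infer_instance

/-- Grassmannian bundles over irreducible schemes are irreducible. -/
theorem irreducibleSpace (hrN : r ≤ N) [IrreducibleSpace X] : IrreducibleSpace G := by
  classical
  have hE' := isQCoh' hE
  haveI := surjective hG hE hrN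
  choose U b hU hxU hb using exists_affine_frame hE
  have hover : ∀ x, IsPreirreducible (π ⁻¹ᵁ U x : Set G) := fun x => by
    let ι := {σ : Fin r → Fin N // Function.Injective σ}
    choose tU htU using fun i : ι => exists_univ_quot E (U x) (b x ∘ i.1) (hU x) hE'
    choose j hj ej hej hjo hjr using fun i : ι => exists_chart hE' hG (hU x) (b x ∘ i.1) (htU i)
    have heq : (π ⁻¹ᵁ U x : Set G) = ⋃ i, Set.range (j i) := by
      refine subset_antisymm (fun z hz => ?_) (Set.iUnion_subset fun i => ?_)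
      · obtain ⟨σ, hσ, hzW⟩ := exists_coord hG (hU x) (hb x) hE' z hz
        exact Set.mem_iUnion.2 ⟨⟨σ, hσ⟩, by rw [hjr]; exact hzW⟩
      · rw [hjr]; exact fun z hz => hz.fst
    rw [heq]
    refine isPreirreducible_iUnion _ (fun i => haveI := hjo i; (j i).isOpenEmbedding.isOpen_range) (fun i => ?_) ?_
    · haveI := irreducibleSpace_chart (hb x) i.2 (hU x) ⟨x, hxU x⟩
      rw [← Set.image_univ]
      exact (PreirreducibleSpace.isPreirreducible_univ).image _ (j i).continuous.continuousOn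
    rintro ⟨σ, hσ⟩ ⟨τ, hτ⟩ - -
    obtain ⟨φ₀, hφ₀, -⟩ := surjective_spec_chartC (b := b x) (hb x) hσ fun _ => 0
    rcases isEmpty_or_nonempty (Fin r) with hr | hr
    · obtain rfl : σ = τ := funext fun k => isEmptyElim k
      rw [Set.inter_self]
      exact ⟨_, Spec.map φ₀ ((hU x).primeIdealOf ⟨x, hxU x⟩), rfl⟩
    obtain ⟨a, haσ, haτ⟩ := exists_common σ τ hσ hτ
    obtain ⟨φ, hφ, hφ'⟩ := surjective_spec_chartC (b := b x) (hb x) hσ fun p => if a p.1.1 = p.2 then 1 else 0
    let i : ι := ⟨σ, hσ⟩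
    let pt := Spec.map φ ((hU x).primeIdealOf ⟨x, hxU x⟩)
    refine ⟨j i pt, ⟨pt, rfl⟩, ?_⟩
    rw [hjr]
    exact (inW_quotBC_iff (hj i) hG.rank q pt).1 ((inW_other (hU x) (htU i) φ hφ hφ' haσ haτ
      ((hU x).primeIdealOf ⟨x, hxU x⟩)).iso (ej i).symm
      (by rw [Iso.symm_hom, ← hej i, Category.assoc, (ej i).hom_inv_id, Category.comp_id]))
  refine (irreducibleSpace_def _).2 ⟨?_, ?_⟩
  · obtain ⟨g, -⟩ := π.surjective (Classical.arbitrary X)
    exact ⟨g, trivial⟩
  have heq : (⊤ : Set G) = ⋃ x, (π ⁻¹ᵁ U x : Set G) :=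
    subset_antisymm (fun z _ => Set.mem_iUnion.2 ⟨π z, hxU (π z)⟩) (fun _ _ => trivial)
  rw [heq]
  refine isPreirreducible_iUnion _ (fun x => (π ⁻¹ᵁ U x).isOpen) hover fun x x' _ _ => ?_
  obtain ⟨w, hw, hw'⟩ := nonempty_preirreducible_inter (U x).isOpen (U x').isOpen ⟨x, hxU x⟩ ⟨x', hxU x'⟩
  obtain ⟨g, hg⟩ := π.surjective w
  exact ⟨g, show π g ∈ U x by rw [hg]; exact hw, show π g ∈ U x' by rw [hg]; exact hw'⟩

end Bundle

end Groth.Agent.H23.GrassExist.Geom
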