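import Groth.Agent.H23.GrassExist.Exist
import Groth.Agent.QuotSm29.ETComp

/-!
The Grassmannian in terms of submodules.
-/

set_option autoImplicit false
set_option backward.isDefEq.respectTransparency false
set_option backward.isDefEq.respectTransparency.types false
set_option linter.style.haveILetI false
set_option linter.unusedSectionVars false

universe u

open CategoryTheory CategoryTheory.Limits AlgebraicGeometry TopologicalSpace Opposite

noncomputable section

namespace Groth.Agent.H23.GrassExist.Fga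

open Groth.Agent Groth.Agent.QuotFunLib Grass

theorem kernelSubobject_eq_iff {T : Scheme.{u}} {M L L' : T.Modules} (t : M ⟶ L) (t' : M ⟶ L') :
    kernelSubobject t = kernelSubobject t' ↔ kerFam t = kerFam t' := by
  refine ⟨fun h => funext fun y => ?_, fun h => ext_stk fun y => ?_⟩
  · exact (stk_kernelSubobject t y).symm.trans ((congrArg (fun K => stk K y) h).trans (stk_kernelSubobject t' y))
  · exact (stk_kernelSubobject t y).trans ((congrFun h y).trans (stk_kernelSubobject t' y).symm)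

theorem exists_cokernel_iso {T : Scheme.{u}} {M L : T.Modules} (t : M ⟶ L) [Epi t] :
    Nonempty (cokernel (kernelSubobject t).arrow ≅ L) :=
  ⟨(exists_iso_of_kerFam_eq (cokernel.π (kernelSubobject t).arrow) t
    ((kernelSubobject_eq_iff _ _).1 (QuotSm29.kernelSubobject_cokernel_π _))).choose⟩

theorem rank_of_iso {T : Scheme.{u}} {M N : T.Modules} (e : M ≅ N) {n : ℕ} (h : FlatMod.IsFinLocFreeOfRank n M) :
    FlatMod.IsFinLocFreeOfRank n N := fun x => by
  obtain ⟨U, hx, ⟨f⟩⟩ := h x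
  exact ⟨U, hx, ⟨(Scheme.Modules.restrictFunctor U.ι).mapIso e.symm ≪≫ f⟩⟩

variable {S : Scheme.{u}} {V : S.Modules} {r : ℕ}

theorem fst_eq (T : Over S) : pullback.snd (𝟙 S) T.hom ≫ T.hom = pullback.fst (𝟙 S) T.hom := by
  rw [← pullback.condition, Category.comp_id]

theorem exists_representing (hV : Coh.IsQCoh V) (r : ℕ) :
    ∃ (G : Over S) (Q : G.left.Modules) (q : (Scheme.Modules.pullback G.hom).obj V ⟶ Q),
      Grass.IsGrass G.hom V r Q q ∧ ∃ K : Subobject (FGA.ET (𝟙 S) V G),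
        FlatMod.IsFinLocFreeOfRank r (cokernel K.arrow) ∧
        ∀ (T : Over S) (K' : Subobject (FGA.ET (𝟙 S) V T)),
          FlatMod.IsFinLocFreeOfRank r (cokernel K'.arrow) → ∃! g : T ⟶ G, FGA.quotPull (𝟙 S) V g K = K' := by
  obtain ⟨G₀, π, Q, q, hG⟩ := exists_isGrass V hV r
  let G : Over S := Over.mk π
  haveI := hG.epi
  let t₀ : FGA.ET (𝟙 S) V G ⟶ (Scheme.Modules.pullback (pullback.snd (𝟙 S) π)).obj Q := quotBC (fst_eq G) q
  haveI : Epi t₀ := GrassFlag.epi_quotBC _ q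
  refine ⟨G, Q, q, hG, kernelSubobject t₀, ?_, fun T K' hK' => ?_⟩
  · obtain ⟨e⟩ := exists_cokernel_iso t₀
    exact rank_of_iso e.symm (GrassFlag.rank_pullback _ hG.rank)
  obtain ⟨h, ⟨hh, e, he⟩, huniq⟩ := hG.univ _ (pullback.fst (𝟙 S) T.hom) _ hK' (cokernel.π K'.arrow) inferInstance
  have key : ∀ g : T ⟶ G, FGA.quotPull (𝟙 S) V g (kernelSubobject t₀) = K' ↔
      pullback.snd (𝟙 S) T.hom ≫ g.left = h := by
    intro g
    let hg : PicF.XT (𝟙 S) T ⟶ G₀ := PicF.XTmap (𝟙 S) g ≫ pullback.snd (𝟙 S) π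
    have hgs : hg = pullback.snd (𝟙 S) T.hom ≫ g.left := ArtFunLib.HilbLink.XTmap_snd (𝟙 S) g
    have hgπ : hg ≫ π = pullback.fst (𝟙 S) T.hom := by
      rw [Category.assoc, show pullback.snd (𝟙 S) π ≫ π = _ from fst_eq G]
      exact FGA.XTmap_fst (𝟙 S) g
    haveI : Epi (quotBC hgπ q) := GrassFlag.epi_quotBC _ q
    have h1 : FGA.quotPull (𝟙 S) V g (kernelSubobject t₀) = kernelSubobject (quotBC hgπ q) := by
      rw [QuotSm29.quotPull_kernelSubobject g t₀]
      have h2 : (FGA.ETiso (𝟙 S) V g).inv ≫ (Scheme.Modules.pullback (PicF.XTmap (𝟙 S) g)).map t₀ =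
          quotBC (FGA.XTmap_fst (𝟙 S) g) t₀ := Category.assoc _ _ _
      refine ((kernelSubobject_eq_iff _ _).2 (congrArg kerFam h2)).trans ?_
      haveI : IsIso (quotBC (rfl : PicF.XTmap (𝟙 S) g ≫ pullback.snd (𝟙 S) π = hg)
          (𝟙 ((Scheme.Modules.pullback (pullback.snd (𝟙 S) π)).obj Q))) := ProjBd.isIso_quotBC_id _
      have h3 := GrassFlag.quotBC_quotBC (fst_eq G) (rfl : PicF.XTmap (𝟙 S) g ≫ pullback.snd (𝟙 S) π = hg) hgπ
        (FGA.XTmap_fst (𝟙 S) g) q (𝟙 _)
      rw [Category.comp_id] at h3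
      refine ((kernelSubobject_eq_iff _ _).2 (congrArg kerFam h3.symm)).trans ?_
      exact QuotSm29.kernelSubobject_comp_iso _ (asIso _)
    rw [h1, ← hgs]
    constructor
    · intro h2
      rw [← QuotSm29.kernelSubobject_cokernel_π K', kernelSubobject_eq_iff] at h2
      obtain ⟨e', he'⟩ := exists_iso_of_kerFam_eq _ _ h2
      exact huniq hg ⟨hgπ, e', he'⟩
    · intro h2
      rw [← QuotSm29.kernelSubobject_cokernel_π K', kernelSubobject_eq_iff]
      subst h2
      exact (kerFam_eq_of_comp_iso e he).symm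
  let g₀ : T ⟶ G := Over.homMk (inv (pullback.snd (𝟙 S) T.hom) ≫ h) (by
    show (inv _ ≫ h) ≫ π = T.hom
    rw [Category.assoc, hh, IsIso.inv_comp_eq, fst_eq])
  exact ⟨g₀, (key g₀).2 (IsIso.hom_inv_id_assoc _ _), fun g hg => Over.OverMorphism.ext
    (((IsIso.eq_inv_comp _).2 ((key g).1 hg)))⟩

end Groth.Agent.H23.GrassExist.Fga
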