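import Groth.Agent.H23.GrassExist.Exist
import Groth.Agent.H28.ExtSh
import Groth.Agent.PinchPO7.FramePull

/-!
The determinant of a quotient as a quotient of an exterior power, on stalks.
-/

set_option autoImplicit false
set_option backward.isDefEq.respectTransparency false
set_option backward.isDefEq.respectTransparency.types false
set_option linter.style.haveILetI false
set_option linter.unusedSectionVars false

universe u

open CategoryTheory CategoryTheory.Limits AlgebraicGeometry TopologicalSpace Opposite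

noncomputable section

namespace Groth.Agent.H23.GrassExist.Pl

open Groth.Agent Groth.Agent.QuotFunLib Grass
open Groth.Agent.AModX (res res_smul)

/-- An alternating map in as many variables as basis vectors is a multiple of the determinant. -/
theorem alternating_eq_det {R M N : Type u} [CommRing R] [AddCommGroup M] [Module R M] [AddCommGroup N] [Module R N]
    {r : ℕ} (β : Module.Basis (Fin r) R M) (f : M [⋀^Fin r]→ₗ[R] N) (y : Fin r → M) : f y = β.det y • f β := by
  classical
  let g : M [⋀^Fin r]→ₗ[R] N := (LinearMap.toSpanSingleton R N (f β)).compAlternatingMap β.det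
  have h : f = g := Module.Basis.ext_alternating β fun v hv => by
    let σ : Equiv.Perm (Fin r) := Equiv.ofBijective v (Finite.injective_iff_bijective.1 hv)
    show f (β ∘ σ) = β.det (β ∘ σ) • f β
    rw [AlternatingMap.map_perm, AlternatingMap.map_perm, β.det_self, Units.smul_def, Units.smul_def,
      zsmul_one, Int.cast_smul_eq_zsmul]
  exact congrArg (fun F : M [⋀^Fin r]→ₗ[R] N => F y) h

variable {X T : Scheme.{u}} {E : X.Modules}

theorem vm_add {g : T ⟶ X} {M : T.Modules} (t : (Scheme.Modules.pullback g).obj E ⟶ M) {U : X.Opens} (z : T)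
    (hz : g z ∈ U) (m n : Γ(E, U)) : vm t z hz (m + n) = vm t z hz m + vm t z hz n := by
  rw [vm, map_add, pmAt_add, map_add]
  rfl

theorem vm_smul {g : T ⟶ X} {M : T.Modules} (t : (Scheme.Modules.pullback g).obj E ⟶ M) {U : X.Opens} (z : T)
    (hz : g z ∈ U) (c : Γ(X, U)) (m : Γ(E, U)) :
    vm t z hz (c • m) = ringAt g z rfl (X.presheaf.germ U (g z) hz c) • vm t z hz m := by
  rw [vm, show E.presheaf.germ U (g z) hz (c • m) = _ from QCoh.germ_smul' E hz c m, pmAt_smul, map_smul]
  rfl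

variable {S G : Scheme.{u}} {V L : S.Modules} {r : ℕ}

/-- `u` is the top exterior power of `t`, read on the decomposable sections `w`. -/
def IsPl {g : G ⟶ S} {Q D : G.Modules} (t : (Scheme.Modules.pullback g).obj V ⟶ Q)
    (u : (Scheme.Modules.pullback g).obj L ⟶ D) (w : ∀ U : S.Opens, (Fin r → Γ(V, U)) → Γ(L, U)) : Prop :=
  ∀ z : G, ∃ (B : Module.Basis (Fin r) (G.presheaf.stalk z) (Q.presheaf.stalk z))
    (W : Module.Basis (Fin 1) (G.presheaf.stalk z) (D.presheaf.stalk z)),
    ∀ (U : S.Opens) (hz : g z ∈ U) (x : Fin r → Γ(V, U)),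
      vm u z hz (w U x) = B.det (fun j => vm t z hz (x j)) • W 0

/-- The decomposable sections of an exterior power. -/
def wsec (θ : H28.ExtBase.L V r ≅ L) (U : S.Opens) (x : Fin r → Γ(V, U)) : Γ(L, U) :=
  θ.hom.app U (H28.ExtBase.mu V r U x)

theorem span_wsec (θ : H28.ExtBase.L V r ≅ L) (hV : FlatMod.IsFinLocFree V) {U : S.Opens} (hU : IsAffineOpen U) :
    Submodule.span Γ(S, U) (Set.range (wsec θ U)) = ⊤ := by
  refine eq_top_iff.2 fun m _ => ?_
  obtain ⟨n, hn⟩ := (H28.ExtSh.bijective_lift r hV hU).2 (θ.inv.app U m)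
  have hm : m = θ.hom.app U (AltGlue.lift (H28.ExtBase.mu V r) U n) := by
    rw [hn]
    exact (congr(Scheme.Modules.Hom.app $(θ.inv_hom_id) U m)).symm
  rw [hm]
  clear hn hm
  have hn : n ∈ Submodule.span Γ(S, U)
      (Set.range (exteriorPower.ιMulti Γ(S, U) r (M := V.val.obj (op U)))) := by
    rw [exteriorPower.ιMulti_span]; trivial
  induction hn using Submodule.span_induction with
  | mem n hn =>
    obtain ⟨x, rfl⟩ := hn
    rw [AltGlue.lift_ιMulti]
    exact Submodule.subset_span ⟨x, rfl⟩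
  | zero => rw [map_zero, map_zero]; exact zero_mem _
  | add a b _ _ ha hb => rw [map_add, map_add]; exact add_mem ha hb
  | smul c a _ ha => rw [map_smul, Scheme.Modules.Hom.app_smul]; exact Submodule.smul_mem _ c ha

section Exists

variable {g : G ⟶ S} {Q : G.Modules} (τ : V ⟶ (Scheme.Modules.pushforward g).obj Q)

/-- The wedge of the images of sections. -/
def muQ (U : S.Opens) : Γ(V, U) [⋀^Fin r]→ₗ[Γ(S, U)]
    Γ((Scheme.Modules.pushforward g).obj (H28.ExtBase.L Q r), U) where
  toFun e := H28.ExtBase.mu Q r (g ⁻¹ᵁ U) fun k => τ.app U (e k)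
  map_update_add' e k x y := by
    have h : ∀ z, (fun j => τ.app U (Function.update e k z j) : Fin r → Γ(Q, g ⁻¹ᵁ U)) =
        Function.update (fun j => τ.app U (e j)) k (τ.app U z) := fun z =>
      funext fun j => Function.apply_update (fun _ => τ.app U) e k z j
    rw [h, h, h, map_add]
    exact (H28.ExtBase.mu Q r (g ⁻¹ᵁ U)).map_update_add _ _ _ _
  map_update_smul' e k c x := by
    have h : ∀ z, (fun j => τ.app U (Function.update e k z j) : Fin r → Γ(Q, g ⁻¹ᵁ U)) =
        Function.update (fun j => τ.app U (e j)) k (τ.app U z) := fun z =>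
      funext fun j => Function.apply_update (fun _ => τ.app U) e k z j
    rw [h, h, Scheme.Modules.Hom.app_smul]
    exact (H28.ExtBase.mu Q r (g ⁻¹ᵁ U)).map_update_smul _ _ _ _
  map_eq_zero_of_eq' e j k he hjk :=
    (H28.ExtBase.mu Q r (g ⁻¹ᵁ U)).map_eq_zero_of_eq _
      (congrArg (fun y => (τ.app U y : Γ(Q, g ⁻¹ᵁ U))) he) hjk

theorem muQ_res (U U' : S.Opens) (i : U' ≤ U) (e : Fin r → Γ(V, U)) :
    res ((Scheme.Modules.pushforward g).obj (H28.ExtBase.L Q r)) i (muQ τ U e) = muQ τ U' (fun k => res V i (e k)) := by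
  refine (H28.ExtBase.mu_res Q r (g ⁻¹ᵁ U) (g ⁻¹ᵁ U') (Scheme.Hom.preimage_mono g i) _).trans ?_
  show H28.ExtBase.mu Q r (g ⁻¹ᵁ U') _ = H28.ExtBase.mu Q r (g ⁻¹ᵁ U') _
  exact congrArg _ (funext fun k => (QCoh.map_app_comm τ (homOfLE i) (e k)).symm)

/-- The map of exterior powers, on the base. -/
def muHom : H28.ExtBase.L V r ⟶ (Scheme.Modules.pushforward g).obj (H28.ExtBase.L Q r) :=
  ((PresheafOfModules.sheafificationAdjunction (𝟙 S.ringCatSheaf.obj)).homEquiv (H28.ExtBase.P V r)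
    ((Scheme.Modules.pushforward g).obj (H28.ExtBase.L Q r))).symm
    (H28.ExtSh.liftP (muQ τ) (muQ_res τ))

theorem muHom_mu (U : S.Opens) (e : Fin r → Γ(V, U)) :
    (muHom τ).app U (H28.ExtBase.mu V r U e) = H28.ExtBase.mu Q r (g ⁻¹ᵁ U) (fun k => τ.app U (e k)) := by
  have h := ((PresheafOfModules.sheafificationAdjunction (𝟙 S.ringCatSheaf.obj)).homEquiv (H28.ExtBase.P V r)
    ((Scheme.Modules.pushforward g).obj (H28.ExtBase.L Q r))).apply_symm_apply
    (H28.ExtSh.liftP (muQ τ) (muQ_res τ))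
  rw [Adjunction.homEquiv_unit] at h
  refine (congrArg (fun q : H28.ExtBase.P V r ⟶ DCoh.toP.obj ((Scheme.Modules.pushforward g).obj
    (H28.ExtBase.L Q r)) => (q.app (op U)).hom (H28.ExtBase.wedge V r e)) h).trans ?_
  exact AltGlue.lift_ιMulti (muQ τ) U e

end Exists

theorem isFrame_det {Q : G.Modules} {O : G.Opens} {b : Fin r → Γ(Q, O)} (hb : Frame.IsFrame Q b) :
    Frame.IsFrame (H28.ExtBase.L Q r) (U := O) (fun _ : Fin 1 => H28.ExtBase.mu Q r O b) := fun W hW => by
  have h := H28.ExtBase.isFrame_wedge hb W hW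
  have e1 : Frame.comb (H28.ExtBase.L Q r) (fun _ : Fin 1 => H28.ExtBase.mu Q r O b) W hW =
      (fun a : Γ(G, W) => a • res (H28.ExtBase.L Q r) hW (H28.ExtBase.mu Q r O b)) ∘ fun c => c 0 :=
    funext fun c => Fin.sum_univ_one _
  rw [e1]
  exact h.comp ⟨fun c c' hc => funext fun i => by rw [Subsingleton.elim i 0]; exact hc, fun a => ⟨fun _ => a, rfl⟩⟩

theorem rank_det {Q : G.Modules} (hQ : FlatMod.IsFinLocFreeOfRank r Q) :
    FlatMod.IsFinLocFreeOfRank 1 (H28.ExtBase.L Q r) := fun z => by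
  obtain ⟨O, hz, ⟨e⟩⟩ := hQ z
  obtain ⟨b, hb⟩ := Frame.exists_frame e
  exact ⟨O, hz, Frame.exists_iso_of_frame _ (isFrame_det hb)⟩

theorem homEquiv_symm_app {g : G ⟶ S} {M : S.Modules} {N : G.Modules} (η : M ⟶ (Scheme.Modules.pushforward g).obj N)
    (U : S.Opens) (m : Γ(M, U)) :
    (((Scheme.Modules.pullbackPushforwardAdjunction g).homEquiv _ _).symm η).app (g ⁻¹ᵁ U)
      (((Scheme.Modules.pullbackPushforwardAdjunction g).unit.app M).app U m) = η.app U m := by
  have h := ((Scheme.Modules.pullbackPushforwardAdjunction g).homEquiv _ _).apply_symm_apply η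
  rw [Adjunction.homEquiv_unit] at h
  exact congrArg (fun φ : M ⟶ _ => φ.app U m) h

theorem app_hom_inv {M N : S.Modules} (e : M ≅ N) (U : S.Opens) (m : Γ(M, U)) : e.inv.app U (e.hom.app U m) = m :=
  congr(Scheme.Modules.Hom.app $(e.hom_inv_id) U m)

/-- The Plücker quotient of a quotient. -/
theorem exists_isPl (hV : Coh.IsQCoh V) (θ : H28.ExtBase.L V r ≅ L) {g : G ⟶ S} {Q : G.Modules}
    (t : (Scheme.Modules.pullback g).obj V ⟶ Q) [Epi t] (hQ : FlatMod.IsFinLocFreeOfRank r Q) :
    ∃ u : (Scheme.Modules.pullback g).obj L ⟶ H28.ExtBase.L Q r, IsPl t u (wsec θ) ∧ Epi u := by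
  classical
  let τ := (Scheme.Modules.pullbackPushforwardAdjunction g).homEquiv _ _ t
  let u := ((Scheme.Modules.pullbackPushforwardAdjunction g).homEquiv _ _).symm (θ.inv ≫ muHom τ)
  have hτ : ∀ (z : G) (U : S.Opens) (hz : g z ∈ U) (m : Γ(V, U)),
      vm t z hz m = Q.presheaf.germ (g ⁻¹ᵁ U) z hz (τ.app U m) := fun z U hz m => by
    rw [vm_eq_germ]
    refine congrArg _ ?_
    show _ = ((Scheme.Modules.pullbackPushforwardAdjunction g).homEquiv _ _ t).app U m
    rw [Adjunction.homEquiv_unit]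
    rfl
  have hu : ∀ (z : G) (U : S.Opens) (hz : g z ∈ U) (x : Fin r → Γ(V, U)),
      vm u z hz (wsec θ U x) = (H28.ExtBase.L Q r).presheaf.germ (g ⁻¹ᵁ U) z hz
        (H28.ExtBase.mu Q r (g ⁻¹ᵁ U) fun k => τ.app U (x k)) := fun z U hz x => by
    rw [vm_eq_germ]
    refine congrArg _ ?_
    refine (homEquiv_symm_app (θ.inv ≫ muHom τ) U (wsec θ U x)).trans ?_
    show (muHom τ).app U (θ.inv.app U (θ.hom.app U (H28.ExtBase.mu V r U x))) = _
    rw [app_hom_inv, muHom_mu]
  have hpl : IsPl t u (wsec θ) := by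
    intro z
    obtain ⟨O, hzO, ⟨e⟩⟩ := hQ z
    obtain ⟨b, hb⟩ := Frame.exists_frame e
    let B := Module.Basis.mk (ModZero.linearIndependent_germ hb hzO) (ModZero.span_germ_frame hb hzO)
    obtain ⟨W, hW⟩ : ∃ W : Module.Basis (Fin 1) (G.presheaf.stalk z) ((H28.ExtBase.L Q r).presheaf.stalk z),
        W 0 = (H28.ExtBase.L Q r).presheaf.germ O z hzO (H28.ExtBase.mu Q r O b) := by
      have hw := isFrame_det hb
      exact ⟨Module.Basis.mk (ModZero.linearIndependent_germ hw hzO) (ModZero.span_germ_frame hw hzO),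
        Module.Basis.mk_apply _ _ _⟩
    refine ⟨B, W, fun U hz x => ?_⟩
    rw [hu, hW]
    let O' : G.Opens := O ⊓ g ⁻¹ᵁ U
    let β := H28.ExtBase.frameBasis hb (inf_le_left : O' ≤ O)
    let y : Fin r → Γ(Q, O') := fun k => res Q (inf_le_right : O' ≤ g ⁻¹ᵁ U) (τ.app U (x k))
    have hz' : z ∈ O' := ⟨hzO, hz⟩
    have h1 : H28.ExtBase.mu Q r O' y = β.det y • H28.ExtBase.mu Q r O' β := alternating_eq_det β _ y
    have hl := H28.ExtBase.mu_res Q r (g ⁻¹ᵁ U) O' inf_le_right (fun k => τ.app U (x k))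
    have hr := H28.ExtBase.mu_res Q r O O' inf_le_left b
    have hβ : (fun k => res Q (inf_le_left : O' ≤ O) (b k)) = ⇑β :=
      funext fun k => (H28.ExtBase.frameBasis_apply hb _ k).symm
    rw [hβ] at hr
    refine Eq.trans (germ_germ_res (homOfLE inf_le_right) z hz' _).symm ?_
    refine Eq.trans (congrArg ((H28.ExtBase.L Q r).presheaf.germ O' z hz') (hl.trans h1)) ?_
    rw [show (H28.ExtBase.L Q r).presheaf.germ O' z hz' (β.det y • H28.ExtBase.mu Q r O' β) = _ from
      QCoh.germ_smul' _ hz' _ _, ← hr]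
    refine congrArg₂ (· • ·) ?_ (germ_germ_res (homOfLE inf_le_left) z hz' _)
    rw [Module.Basis.det_apply, Module.Basis.det_apply]
    refine ((G.presheaf.germ O' z hz').hom.map_det _).trans (congrArg Matrix.det ?_)
    ext i j
    rw [RingHom.mapMatrix_apply, Matrix.map_apply, Module.Basis.toMatrix_apply, Module.Basis.toMatrix_apply]
    have hj : vm t z hz (x j) = ∑ i, G.presheaf.germ O' z hz' (β.repr (y j) i) • B i := by
      rw [hτ]
      refine Eq.trans (germ_germ_res (homOfLE inf_le_right) z hz' _).symm ?_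
      refine Eq.trans (congrArg (Q.presheaf.germ O' z hz') (β.sum_repr (y j)).symm) ?_
      rw [map_sum]
      refine Finset.sum_congr rfl fun i _ => ?_
      rw [show Q.presheaf.germ O' z hz' (β.repr (y j) i • β i) = _ from QCoh.germ_smul' _ hz' _ _,
        H28.ExtBase.frameBasis_apply, Module.Basis.mk_apply]
      exact congrArg _ (germ_germ_res (homOfLE inf_le_left) z hz' (b i))
    rw [hj, Module.Basis.repr_sum_self]
  refine ⟨u, hpl, epi_of_smap_surjective u fun z => ?_⟩
  obtain ⟨B, W, hBW⟩ := hpl z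
  obtain ⟨i, hz, hi⟩ := exists_chart_mem V hV hQ t z
  obtain ⟨c, hc⟩ := ((span_eq_top_iff_det B _).1 hi).exists_left_inv
  intro v
  refine ⟨W.repr v 0 • c • pmAt g L z rfl (L.presheaf.germ i.1.1 (g z) hz (wsec θ i.1.1 i.2)), ?_⟩
  rw [map_smul, map_smul]
  show W.repr v 0 • c • vm u z hz (wsec θ i.1.1 i.2) = v
  rw [hBW, smul_smul c, hc, one_smul]
  exact (Fin.sum_univ_one fun j => W.repr v j • W j).symm.trans (W.sum_repr v)

end Groth.Agent.H23.GrassExist.Pl
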