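import Groth.Agent.H23.GrassExist.PlMap
import Groth.Agent.H23.ProjBd.Proper
import Groth.Agent.Synt29.ExtPowPull

/-!
The Plücker morphism of a Grassmannian is a closed immersion.
-/

set_option autoImplicit false
set_option backward.isDefEq.respectTransparency false
set_option backward.isDefEq.respectTransparency.types false
set_option linter.style.haveILetI false
set_option linter.unusedSectionVars false

universe u

open CategoryTheory CategoryTheory.Limits AlgebraicGeometry TopologicalSpace Opposite MvPolynomial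

noncomputable section

namespace Groth.Agent.H23.GrassExist.Pl

open Groth.Agent Groth.Agent.QuotFunLib Grass

variable {S G P : Scheme.{u}} {V L : S.Modules} {r : ℕ}

theorem rank_iso {M N : S.Modules} (e : M ≅ N) {n : ℕ} (h : FlatMod.IsFinLocFreeOfRank n M) :
    FlatMod.IsFinLocFreeOfRank n N := fun x => by
  obtain ⟨U, hx, ⟨f⟩⟩ := h x
  exact ⟨U, hx, ⟨(Scheme.Modules.restrictFunctor U.ι).mapIso e.symm ≪≫ f⟩⟩

theorem exists_rank_L {n : ℕ} (hV : FlatMod.IsFinLocFreeOfRank n V) (hrn : r ≤ n) (θ : H28.ExtBase.L V r ≅ L) :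
    ∃ N : ℕ, FlatMod.IsFinLocFreeOfRank (N + 1) L := by
  classical
  haveI : Nonempty (Set.powersetCard (Fin n) r) := by
    obtain ⟨s, -, hs⟩ := Finset.exists_subset_card_eq (s := (Finset.univ : Finset (Fin n))) (n := r) (by simpa using hrn)
    exact ⟨⟨s, hs⟩⟩
  obtain ⟨N, hN⟩ := Nat.exists_eq_add_one.2 (Fintype.card_pos (α := Set.powersetCard (Fin n) r))
  refine ⟨N, rank_iso θ fun x => ?_⟩
  obtain ⟨U, hx, ⟨e⟩⟩ := hV x
  obtain ⟨b, hb⟩ := Frame.exists_frame e
  rw [← hN]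
  exact ⟨U, hx, Frame.exists_iso_of_frame _ (H28.ExtSh.isFrame_wFrame hb)⟩

theorem span_one_iff {R M : Type u} [CommRing R] [AddCommGroup M] [Module R M] (W : Module.Basis (Fin 1) R M) (a : R) :
    Submodule.span R (Set.range fun _ : Fin 1 => a • W 0) = ⊤ ↔ IsUnit a := by
  rw [span_eq_top_iff_det W]
  refine iff_of_eq (congrArg IsUnit ?_)
  rw [Module.Basis.det_apply, Matrix.det_fin_one, Module.Basis.toMatrix_apply, map_smul, Finsupp.smul_apply,
    Module.Basis.repr_self, Finsupp.single_eq_same, smul_eq_mul, mul_one]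

theorem det_update {R M : Type u} [CommRing R] [AddCommGroup M] [Module R M] (B : Module.Basis (Fin r) R M)
    (v : Fin r → M) (a : Fin r → R) (l : Fin r) :
    B.det (Function.update v l (∑ j, a j • v j)) = a l * B.det v := by
  classical
  rw [AlternatingMap.map_update_sum, Finset.sum_eq_single l]
  · rw [AlternatingMap.map_update_smul, Function.update_eq_self, smul_eq_mul]
  · intro j _ hj
    rw [AlternatingMap.map_update_smul, AlternatingMap.map_eq_zero_of_eq B.det _ (i := j) (j := l) ?_ hj, smul_zero]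
    rw [Function.update_of_ne hj, Function.update_self]
  · intro h; exact absurd (Finset.mem_univ l) h

theorem span_eq_top_basis {R M : Type u} [CommRing R] [AddCommGroup M] [Module R M] (b : Module.Basis (Fin r) R M)
    (v : Fin r → M) (h : Submodule.span R (Set.range v) = ⊤) : ∃ B : Module.Basis (Fin r) R M, ⇑B = v := by
  have hli : LinearIndependent R v := ((b.is_basis_iff_det).2 ((span_eq_top_iff_det b v).1 h)).1
  exact ⟨Module.Basis.mk hli h.ge, Module.Basis.coe_mk _ _⟩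

/-- Two morphisms to an affine scheme agreeing on global functions are equal. -/
theorem hom_affine_ext {R : CommRingCat.{u}} {T : Scheme.{u}} {f g : T ⟶ Spec R}
    (h : (Scheme.ΓSpecIso R).inv ≫ f.appTop = (Scheme.ΓSpecIso R).inv ≫ g.appTop) : f = g := by
  have key : ∀ f : T ⟶ Spec R, T.toSpecΓ ≫ Spec.map ((Scheme.ΓSpecIso R).inv ≫ f.appTop) = f := fun f => by
    rw [Spec.map_comp, ← Scheme.toSpecΓ_naturality_assoc, toSpecΓ_SpecMap_ΓSpecIso_inv, Category.comp_id]
  rw [← key f, ← key g, h]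

theorem toSpecΓ_map_comp_fromSpec {T : Scheme.{u}} {g : T ⟶ S} {U : S.Opens} (hU : IsAffineOpen U)
    (hle : (⊤ : T.Opens) ≤ g ⁻¹ᵁ U) : T.toSpecΓ ≫ Spec.map (g.appLE U ⊤ hle) ≫ hU.fromSpec = g := by
  haveI : IsIso (⊤ : T.Opens).ι := T.topIso.isIso_hom
  rw [← cancel_epi (⊤ : T.Opens).ι, ← Category.assoc, ← Scheme.Opens.toSpecΓ_top,
    Scheme.Opens.toSpecΓ_SpecMap_appLE_assoc, hU.toSpecΓ_fromSpec, Scheme.Hom.resLE_comp_ι]

theorem germ_appTop {T T' : Scheme.{u}} (c : T' ⟶ T) (y : T') (a : Γ(T, ⊤)) :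
    T'.presheaf.germ ⊤ y trivial (c.appTop a) = ringAt c y rfl (T.presheaf.germ ⊤ (c y) trivial a) :=
  (Scheme.Hom.germ_stalkMap_apply c ⊤ y trivial a).symm

theorem exists_closedImmersion {n : ℕ} (hV : FlatMod.IsFinLocFreeOfRank n V) (hrn : r ≤ n)
    {π : G ⟶ S} {Q : G.Modules} {q : (Scheme.Modules.pullback π).obj V ⟶ Q} (hG : Grass.IsGrass π V r Q q)
    (θ : H28.ExtBase.L V r ≅ L) (hL : ExtPow.IsExtPow r V L)
    {p : P ⟶ S} {O1 : P.Modules} {u0 : (Scheme.Modules.pullback p).obj L ⟶ O1}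
    (hP : KRR.IsProjBundle p L O1 u0) : ∃ c : G ⟶ P, IsClosedImmersion c ∧ c ≫ p = π := by
  classical
  have hVf : FlatMod.IsFinLocFree V := fun x => by
    obtain ⟨U, hx, e⟩ := hV x
    exact ⟨U, n, hx, e⟩
  have hVq : Coh.IsQCoh V := QCoh.isQCoh_of_isFinLocFree hVf
  have hLq : Coh.IsQCoh L := Synt29.ExtPowPull.isQCoh_of_isExtPow hVq hL
  obtain ⟨N, hLr⟩ := exists_rank_L hV hrn θ
  haveI : IsProper p := ProjBd.isProper_of_projBundle hP hLr
  haveI := hG.epi
  haveI := hP.epi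
  obtain ⟨uG, hpl, huG⟩ := exists_isPl hVq θ q hG.rank
  obtain ⟨c, ⟨hc, e, he⟩, -⟩ := hP.univ G π _ (rank_det hG.rank) uG huG
  have he' : quotBC hc u0 ≫ e.hom = uG := by simpa only [quotBC, Category.assoc] using he
  refine ⟨c, ?_, hc⟩
  have hvm : ∀ (z : G) (U : S.Opens) (hz : π z ∈ U) (hz' : p (c z) ∈ U) (m : Γ(L, U)),
      vm uG z hz m = smap e.hom z (pmAt c O1 z rfl (vm u0 (c z) hz' m)) := fun z U hz hz' m => by
    rw [← he', vm_comp, vm_quotBC hc u0 z rfl hz hz']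
  -- the pieces of the projective bundle
  let Ps : Idx V r → P.Opens := fun i =>
    ⟨{y | InW (E := L) i.1.1 (fun _ : Fin 1 => wsec θ i.1.1 i.2) p u0 y}, isOpen_inW hP.invertible u0⟩
  have hcov : ⨆ i, Ps i = ⊤ := top_le_iff.1 fun y _ => by
    obtain ⟨i, hy, hi⟩ := exists_chart_mem L hLq hP.invertible u0 y
    obtain ⟨b⟩ := CurveTensor.exists_basis_stalk hP.invertible y
    have hsp : Submodule.span (P.presheaf.stalk y)
        (Set.range fun x : Fin r → Γ(V, i.1.1) => vm u0 y hy (wsec θ i.1.1 x)) = ⊤ := by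
      refine eq_top_iff.2 (hi.ge.trans (Submodule.span_le.2 ?_))
      rintro _ ⟨k, rfl⟩
      have hk : i.2 k ∈ Submodule.span Γ(S, i.1.1) (Set.range (wsec θ i.1.1)) := by
        rw [span_wsec θ hVf i.1.2]; trivial
      show vm u0 y hy (i.2 k) ∈ Submodule.span _ _
      generalize i.2 k = m at hk ⊢
      induction hk using Submodule.span_induction with
      | mem m hm => obtain ⟨x, rfl⟩ := hm; exact Submodule.subset_span ⟨x, rfl⟩
      | zero => rw [vm, map_zero, pmAt_zero, map_zero]; exact zero_mem _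
      | add a b _ _ ha hb => rw [vm_add]; exact add_mem ha hb
      | smul a b _ hb => rw [vm_smul]; exact Submodule.smul_mem _ _ hb
    obtain ⟨v, hv, hvs⟩ := exists_span_of_span b _ hsp
    obtain ⟨x, hx⟩ := hv 0
    refine Opens.mem_iSup.2 ⟨⟨i.1, x⟩, hy, ?_⟩
    show Submodule.span _ (Set.range fun _ : Fin 1 => vm u0 y hy (wsec θ i.1.1 x)) = ⊤
    rw [show (fun _ : Fin 1 => vm u0 y hy (wsec θ i.1.1 x)) = v from funext fun k => by
      rw [Subsingleton.elim k 0]; exact hx]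
    exact hvs
  have hmem : ∀ (i : Idx V r) (z : G), c z ∈ Ps i ↔ InW i.1.1 i.2 π q z := fun i z => by
    have h1 : c z ∈ Ps i ↔ InW (E := L) i.1.1 (fun _ : Fin 1 => wsec θ i.1.1 i.2) π uG z :=
      ⟨fun h => ((inW_quotBC_iff hc hP.invertible u0 z).2 h).iso e he',
        fun h => (inW_quotBC_iff hc hP.invertible u0 z).1 (h.iso e.symm
          (by rw [Iso.symm_hom, ← he', Category.assoc, e.hom_inv_id, Category.comp_id]))⟩
    refine h1.trans ?_
    obtain ⟨B, W, hBW⟩ := hpl z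
    have key : ∀ hz : π z ∈ i.1.1, (Submodule.span (G.presheaf.stalk z)
        (Set.range fun _ : Fin 1 => vm uG z hz (wsec θ i.1.1 i.2)) = ⊤ ↔
        Submodule.span (G.presheaf.stalk z) (Set.range fun k => vm q z hz (i.2 k)) = ⊤) := fun hz => by
      rw [hBW, span_one_iff, span_eq_top_iff_det B]
    exact ⟨fun ⟨hz, h⟩ => ⟨hz, (key hz).1 h⟩, fun ⟨hz, h⟩ => ⟨hz, (key hz).2 h⟩⟩
  refine IsZariskiLocalAtTarget.of_iSup_eq_top (P := @IsClosedImmersion) Ps hcov fun i => ?_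
  obtain ⟨⟨U, hU⟩, s⟩ := i
  let O := Ps ⟨⟨U, hU⟩, s⟩
  let T := c ⁻¹ᵁ O
  -- the projective side
  let gP : O.toScheme ⟶ S := O.ι ≫ p
  let u₁ := quotBC (rfl : O.ι ≫ p = gP) u0
  have hWP : ∀ y, InW (E := L) U (fun _ : Fin 1 => wsec θ U s) gP u₁ y := fun y =>
    (inW_quotBC_iff (rfl : O.ι ≫ p = gP) hP.invertible u0 y).2 y.2
  obtain ⟨e₁, he₁⟩ := exists_normal (GrassFlag.rank_pullback O.ι hP.invertible) u₁ hWP
  have hgP : ∀ y, gP y ∈ U := fun y => (hWP y).fst
  let f : Γ(V, U) × Fin r → Γ(O.toScheme, ⊤) := fun ml =>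
    coef hgP (u₁ ≫ e₁.hom) (wsec θ U (Function.update s ml.2 ml.1)) 0
  have hleP : (⊤ : O.toScheme.Opens) ≤ gP ⁻¹ᵁ U := fun y _ => hgP y
  let A : CommRingCat.{u} := CommRingCat.of (MvPolynomial (Γ(V, U) × Fin r) Γ(S, U))
  let Cm : Γ(S, U) ⟶ A := CommRingCat.ofHom C
  let ev : A ⟶ Γ(O.toScheme, ⊤) := CommRingCat.ofHom (eval₂Hom (gP.appLE U ⊤ hleP).hom f)
  let rP : O.toScheme ⟶ Spec A := O.toScheme.toSpecΓ ≫ Spec.map ev
  have hev : Cm ≫ ev = gP.appLE U ⊤ hleP := CommRingCat.hom_ext (RingHom.ext fun a => eval₂Hom_C _ _ a)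
  have hrP : rP ≫ Spec.map Cm ≫ hU.fromSpec = gP := by
    show (O.toScheme.toSpecΓ ≫ Spec.map ev) ≫ _ = _
    rw [Category.assoc, ← Spec.map_comp_assoc, hev]
    exact toSpecΓ_map_comp_fromSpec hU hleP
  haveI : IsSeparated rP := by
    haveI : IsSeparated (rP ≫ Spec.map Cm ≫ hU.fromSpec) := by rw [hrP]; infer_instance
    exact IsSeparated.of_comp rP (Spec.map Cm ≫ hU.fromSpec)
  -- the Grassmannian side
  let gT : T.toScheme ⟶ S := T.ι ≫ π
  let t₁ := quotBC (rfl : T.ι ≫ π = gT) q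
  have hWT : ∀ y, InW U s gT t₁ y := fun y =>
    (inW_quotBC_iff (rfl : T.ι ≫ π = gT) hG.rank q y).2 ((hmem ⟨⟨U, hU⟩, s⟩ (T.ι y)).1 y.2)
  obtain ⟨tU, htU⟩ := exists_univ_quot V U s hU hVq
  haveI := univ_epi V U s hU htU
  have hrankT := GrassFlag.rank_pullback T.ι hG.rank
  obtain ⟨d, hd, ed, hed⟩ := chart_lift V U s hU htU hVq hrankT t₁ hWT
  obtain ⟨j, ⟨hj, ej, hej⟩, -⟩ := hG.univ _ (chartQ V U s hU) _ (freeMod_rank _ r) tU inferInstance
  have hjT : Set.range j ⊆ Set.range T.ι := by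
    rintro _ ⟨y, rfl⟩
    rw [Scheme.Opens.range_ι]
    refine (hmem ⟨⟨U, hU⟩, s⟩ (j y)).2 ?_
    exact (inW_quotBC_iff hj hG.rank q y).1 ((univ_inW V U s hU htU y).iso ej.symm
      (by rw [Iso.symm_hom, ← hej, Category.assoc, ej.hom_inv_id, Category.comp_id]))
  let j' := IsOpenImmersion.lift T.ι j hjT
  have hj' : j' ≫ T.ι = j := IsOpenImmersion.lift_fac _ _ _
  have hdj : d ≫ j' = 𝟙 _ := by
    rw [← cancel_mono T.ι, Category.assoc, hj', Category.id_comp]
    haveI : Epi t₁ := GrassFlag.epi_quotBC _ q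
    obtain ⟨h₀, -, huniq⟩ := hG.univ _ gT _ hrankT t₁ inferInstance
    have hdjπ : (d ≫ j) ≫ π = gT := by rw [Category.assoc, hj, hd]
    haveI : IsIso (quotBC (rfl : d ≫ j = d ≫ j) ej.hom) := by unfold Grass.quotBC; infer_instance
    refine (huniq (d ≫ j) ⟨hdjπ, asIso (quotBC (rfl : d ≫ j = d ≫ j) ej.hom) ≪≫ ed, ?_⟩).trans
      (huniq T.ι ⟨rfl, Iso.refl _, Category.comp_id _⟩).symm
    show quotBC hdjπ q ≫ quotBC (rfl : d ≫ j = d ≫ j) ej.hom ≫ ed.hom = t₁
    rw [← Category.assoc, GrassFlag.quotBC_quotBC hj rfl hdjπ hd q ej.hom, hej]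
    exact hed
  haveI : IsSeparated j' := by
    haveI : IsSeparated (j' ≫ gT) := by
      rw [show j' ≫ gT = chartQ V U s hU from by rw [← Category.assoc, hj', hj]]
      unfold chartQ
      infer_instance
    exact IsSeparated.of_comp j' gT
  haveI : IsClosedImmersion (d ≫ j') := by rw [hdj]; infer_instance
  haveI : IsClosedImmersion d := IsClosedImmersion.of_comp d j'
  let mk' : A ⟶ chartRing V U s := CommRingCat.ofHom (Ideal.Quotient.mk _)
  haveI : IsClosedImmersion (Spec.map mk') := IsClosedImmersion.spec_of_surjective _ Ideal.Quotient.mk_surjective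
  have hcs : c ∣_ O ≫ O.ι = T.ι ≫ c := morphismRestrict_ι c O
  suffices hmain : (c ∣_ O) ≫ rP = d ≫ Spec.map mk' by
    haveI : IsClosedImmersion ((c ∣_ O) ≫ rP) := by rw [hmain]; infer_instance
    exact IsClosedImmersion.of_comp (c ∣_ O) rP
  have hbase : ((c ∣_ O) ≫ rP) ≫ Spec.map Cm = (d ≫ Spec.map mk') ≫ Spec.map Cm := by
    rw [← cancel_mono hU.fromSpec]
    simp only [Category.assoc]
    rw [hrP, ← Category.assoc, hcs, Category.assoc, hc, ← Spec.map_comp_assoc,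
      show Cm ≫ mk' = chartC V U s from rfl]
    exact hd.symm
  refine hom_affine_ext (CommRingCat.hom_ext (MvPolynomial.ringHom_ext (fun a => ?_) fun ml => ?_))
  · have h := congr($(congrArg Scheme.Hom.appTop hbase) ((Scheme.ΓSpecIso Γ(S, U)).inv a))
    have h2 : (Spec.map Cm).appTop ((Scheme.ΓSpecIso Γ(S, U)).inv a) = (Scheme.ΓSpecIso A).inv (Cm a) :=
      (congr($(Scheme.ΓSpecIso_inv_naturality Cm) a)).symm
    show ((c ∣_ O) ≫ rP).appTop ((Scheme.ΓSpecIso A).inv (Cm a)) = (d ≫ Spec.map mk').appTop ((Scheme.ΓSpecIso A).inv (Cm a))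
    rw [← h2]
    exact h
  refine section_ext fun y => ?_
  obtain ⟨m, l⟩ := ml
  have hL' : rP.appTop ((Scheme.ΓSpecIso A).inv (MvPolynomial.X (m, l))) = f (m, l) := by
    show (O.toScheme.toSpecΓ ≫ Spec.map ev).appTop _ = _
    rw [Scheme.Hom.comp_appTop, CommRingCat.comp_apply, Scheme.toSpecΓ_appTop]
    refine (congr($(Scheme.ΓSpecIso_naturality ev) ((Scheme.ΓSpecIso A).inv (MvPolynomial.X (m, l))))).trans ?_
    rw [CommRingCat.comp_apply, Iso.inv_hom_id_apply]
    exact eval₂Hom_X' _ _ _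
  have hR' : (Spec.map mk').appTop ((Scheme.ΓSpecIso A).inv (MvPolynomial.X (m, l))) = psiSec V U s m l :=
    (congr($(Scheme.ΓSpecIso_inv_naturality mk') (MvPolynomial.X (m, l)))).symm
  show T.toScheme.presheaf.germ ⊤ y trivial
      ((c ∣_ O).appTop (rP.appTop ((Scheme.ΓSpecIso A).inv (MvPolynomial.X (m, l))))) =
    T.toScheme.presheaf.germ ⊤ y trivial
      (d.appTop ((Spec.map mk').appTop ((Scheme.ΓSpecIso A).inv (MvPolynomial.X (m, l)))))
  rw [hL', hR', germ_appTop, germ_appTop]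
  -- the coordinates at a point
  let z := T.ι y
  have hzU : π z ∈ U := ((hmem ⟨⟨U, hU⟩, s⟩ z).1 y.2).fst
  obtain ⟨bz⟩ := CurveTensor.exists_basis_stalk hG.rank z
  obtain ⟨β, hβ⟩ := span_eq_top_basis bz _ ((hmem ⟨⟨U, hU⟩, s⟩ z).1 y.2).snd
  let α : Fin r → G.presheaf.stalk z := fun k => β.repr (vm q z hzU m) k
  have hα : vm q z hzU m = ∑ k, α k • vm q z hzU (s k) := by
    conv_lhs => rw [← β.sum_repr (vm q z hzU m)]
    rw [hβ]
  have hgTy : gT y ∈ U := hzU
  have hT₁ : ∀ m', vm t₁ y hgTy m' = pmAt T.ι Q y rfl (vm q z hzU m') := fun m' =>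
    vm_quotBC (rfl : T.ι ≫ π = gT) q y rfl hgTy hzU m'
  obtain ⟨bT⟩ := CurveTensor.exists_basis_stalk hrankT y
  obtain ⟨βT, hβT⟩ := span_eq_top_basis bT _ (hWT y).snd
  -- the chart side
  have hright : ringAt d y rfl ((Spec (chartRing V U s)).presheaf.germ ⊤ (d y) trivial (psiSec V U s m l)) =
      ringAt T.ι y rfl (α l) := by
    have hstd : ∀ k, smap ed.hom y (pmAt d _ y rfl (stdGerm (Spec (chartRing V U s)) r k (d y))) = βT k := by
      intro k
      rw [hβT]
      refine Eq.trans ?_ (congrArg (fun φ => vm φ y hgTy (s k)) hed)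
      show _ = vm (quotBC hd tU ≫ ed.hom) y hgTy (s k)
      rw [vm_comp, vm_quotBC hd tU y rfl hgTy (chartQ_mem V U s hU (d y)), univ_delta V U s hU htU]
    have h3 : vm (quotBC hd tU ≫ ed.hom) y hgTy m = vm t₁ y hgTy m := congrArg (fun φ => vm φ y hgTy m) hed
    rw [vm_comp, chart_coef V U s hU htU d hd y hgTy, map_sum, hT₁, hα] at h3
    simp only [map_smul, hstd] at h3
    rw [show pmAt T.ι Q y rfl (∑ k, α k • vm q z hzU (s k)) = pm T.ι Q y (∑ k, α k • vm q z hzU (s k)) from rfl,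
      pm_sum] at h3
    have h4 : ∀ k, pm T.ι Q y (α k • vm q z hzU (s k)) = ringAt T.ι y rfl (α k) • βT k := fun k => by
      rw [pm_smul, hβT]
      exact congrArg _ (hT₁ (s k)).symm
    simp only [h4] at h3
    have := congrArg (fun x => βT.repr x l) h3
    simp only [Module.Basis.repr_sum_self] at this
    exact this
  rw [hright]
  -- the projective side
  let x := (c ∣_ O) y
  have hxz : O.ι x = c z := by
    show ((c ∣_ O) ≫ O.ι) y = _
    rw [hcs]
    rfl
  have hpz : p (c z) ∈ U := by rw [← hxz]; exact hgP x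
  obtain ⟨F, hF⟩ := (ringAt_bijective hxz).2 (O.toScheme.presheaf.germ ⊤ x trivial (f (m, l)))
  let w' := wsec θ U (Function.update s l m)
  have hu₁ : vm u₁ x (hgP x) w' = O.toScheme.presheaf.germ ⊤ x trivial (f (m, l)) • vm u₁ x (hgP x) (wsec θ U s) := by
    refine QuotFunLib.smap_injective e₁.hom x ?_
    rw [map_smul, ← vm_comp, ← vm_comp, he₁ x 0, vm_eq_sum hgP, Fin.sum_univ_one]
  have hu0 : vm u0 (c z) hpz w' = F • vm u0 (c z) hpz (wsec θ U s) := by
    refine pmAt_injective_of_bijective O1 hxz (ringAt_bijective hxz) ?_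
    rw [pmAt_smul, hF, ← vm_quotBC (rfl : O.ι ≫ p = gP) u0 x hxz (hgP x) hpz,
      ← vm_quotBC (rfl : O.ι ≫ p = gP) u0 x hxz (hgP x) hpz]
    exact hu₁
  obtain ⟨B, W, hBW⟩ := hpl z
  have hD : IsUnit (B.det fun k => vm q z hzU (s k)) :=
    (span_eq_top_iff_det B _).1 ((hmem ⟨⟨U, hU⟩, s⟩ z).1 y.2).snd
  have hF' : ringAt c z rfl F = α l := by
    have h1 : vm uG z hzU w' = ringAt c z rfl F • vm uG z hzU (wsec θ U s) := by
      rw [hvm z U hzU hpz, hvm z U hzU hpz, hu0, pmAt_smul, map_smul]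
    rw [show w' = wsec θ U (Function.update s l m) from rfl, hBW, hBW, smul_smul,
      show (fun j => vm q z hzU (Function.update s l m j)) =
        Function.update (fun j => vm q z hzU (s j)) l (vm q z hzU m) from
        funext fun j => Function.apply_update (fun _ => vm q z hzU) s l m j, hα, det_update] at h1
    have h2 := congrArg (fun v => W.repr v 0) h1
    simp only [map_smul, Finsupp.smul_apply, Module.Basis.repr_self, Finsupp.single_eq_same, smul_eq_mul,
      mul_one] at h2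
    exact (hD.mul_right_cancel h2).symm
  rw [← hF', ← hF, ringAt_comp T.ι c y rfl rfl (show (T.ι ≫ c) y = c z from rfl),
    ringAt_comp (c ∣_ O) O.ι y rfl hxz (show (c ∣_ O ≫ O.ι) y = c z from hxz)]
  exact ringAt_congr hcs y _ _ F

end Groth.Agent.H23.GrassExist.Pl
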