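import Groth.Agent.H23.GrassExist.Basic
import Groth.Agent.H23.RepCharts

/-!
The Grassmannian functor is a Zariski sheaf.
-/

set_option autoImplicit false
set_option backward.isDefEq.respectTransparency false
set_option backward.isDefEq.respectTransparency.types false
set_option linter.style.haveILetI false

universe u

open CategoryTheory CategoryTheory.Limits AlgebraicGeometry TopologicalSpace Opposite

noncomputable section

namespace Groth.Agent.H23.GrassExist

open Groth.Agent Groth.Agent.QuotFunLib Grass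

variable {X T : Scheme.{u}} {E : X.Modules} {r : ℕ}

theorem rank_of_local (Q : T.Modules)
    (h : ∀ y : T, ∃ (A : Scheme.{u}) (f : A ⟶ T) (_ : IsOpenImmersion f) (L : A.Modules) (z : A),
      f z = y ∧ FlatMod.IsFinLocFreeOfRank r L ∧ Nonempty ((Scheme.Modules.pullback f).obj Q ≅ L)) :
    FlatMod.IsFinLocFreeOfRank r Q := by
  intro y
  obtain ⟨A, f, hf, L, z, hz, hL, ⟨e⟩⟩ := h y
  obtain ⟨V, hzV, ⟨eV⟩⟩ := hL z
  let O : T.Opens := (V.ι ≫ f).opensRange
  refine ⟨O, ⟨⟨z, hzV⟩, hz⟩, ?_⟩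
  let φ : (O : Scheme.{u}) ⟶ (V : Scheme.{u}) := IsOpenImmersion.lift (V.ι ≫ f) O.ι (by rw [Scheme.Opens.range_ι]; rfl)
  have hφ : φ ≫ V.ι ≫ f = O.ι := IsOpenImmersion.lift_fac _ _ _
  exact ⟨(Scheme.Modules.restrictFunctorIsoPullback O.ι).app Q ≪≫
    (Scheme.Modules.pullbackCongr hφ).symm.app Q ≪≫
    ((Scheme.Modules.pullbackComp φ (V.ι ≫ f)).app Q).symm ≪≫
    (Scheme.Modules.pullback φ).mapIso (((Scheme.Modules.pullbackComp V.ι f).app Q).symm ≪≫
      (Scheme.Modules.pullback V.ι).mapIso e ≪≫ ((Scheme.Modules.restrictFunctorIsoPullback V.ι).app L).symm ≪≫ eV) ≪≫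
    KFlatLib.pullFreeIso φ r⟩

theorem smap_pullback_eq_zero_iff {T' : Scheme.{u}} (a : T' ⟶ T) [IsOpenImmersion a] {M L : T.Modules} (t : M ⟶ L)
    (y : T') (m : M.presheaf.stalk (a y)) :
    smap ((Scheme.Modules.pullback a).map t) y (pm a M y m) = 0 ↔ smap t (a y) m = 0 := by
  rw [← pm_nat]
  exact ⟨fun h => (pmAt_injective_of_bijective (a := a) L rfl (ringAt_bijective rfl)) (h.trans (pm_zero a).symm),
    fun h => by rw [h, pm_zero]⟩

theorem pm_surjective_of_open {T' : Scheme.{u}} (a : T' ⟶ T) [IsOpenImmersion a] (M : T.Modules) (y : T') :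
    Function.Surjective (pm a M y) :=
  pm_surjective a (ConcreteCategory.bijective_of_isIso (a.stalkMap y)).2

theorem isSheafFor_cover {Y : Scheme.{u}} (𝒰 : Scheme.OpenCover.{u} Y) :
    Presieve.IsSheafFor (pre E r) (Presieve.ofArrows 𝒰.X 𝒰.f) := by
  classical
  rw [Presieve.isSheafFor_arrows_iff]
  intro x hx
  let g₀ : ∀ i, 𝒰.X i ⟶ X := fun i => (x i).1
  have hc : ∀ i j, pullback.fst (𝒰.f i) (𝒰.f j) ≫ g₀ i = pullback.snd (𝒰.f i) (𝒰.f j) ≫ g₀ j := fun i j =>
    congrArg Sigma.fst (hx _ _ _ (pullback.fst (𝒰.f i) (𝒰.f j)) (pullback.snd (𝒰.f i) (𝒰.f j)) pullback.condition)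
  let g : Y ⟶ X := 𝒰.glueMorphisms g₀ hc
  have hg : ∀ i, 𝒰.f i ≫ g = g₀ i := fun i => 𝒰.ι_glueMorphisms g₀ hc i
  choose L t hte hL hxt using fun i => exists_mk (x i)
  let ψ : ∀ i, (Scheme.Modules.pullback (𝒰.f i)).obj ((Scheme.Modules.pullback g).obj E) ⟶ L i :=
    fun i => (θ E (𝒰.f i) (hg i)).hom ≫ t i
  haveI : ∀ i, Epi (ψ i) := fun i => haveI := hte i; epi_comp _ _
  let φ : ∀ i, (Scheme.Modules.pullback g).obj E ⟶ (Scheme.Modules.pushforward (𝒰.f i)).obj (L i) := fun i =>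
    (Scheme.Modules.pullbackPushforwardAdjunction (𝒰.f i)).homEquiv _ _ (ψ i)
  let Φ := Limits.Pi.lift φ
  let q := cokernel.π (kernel.ι Φ)
  -- the kernel of the glued quotient
  have hloc : ∀ i (z : 𝒰.X i) (m : ((Scheme.Modules.pullback g).obj E).presheaf.stalk (𝒰.f i z)),
      smap q (𝒰.f i z) m = 0 ↔ smap (ψ i) z (pm (𝒰.f i) _ z m) = 0 := by
    intro i z m
    rw [← LinearMap.mem_ker, QuotFunLib.ker_smap_cokernel_π]
    constructor
    · rintro ⟨n, rfl⟩
      have e : ψ i = (Scheme.Modules.pullback (𝒰.f i)).map (φ i) ≫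
          (Scheme.Modules.pullbackPushforwardAdjunction (𝒰.f i)).counit.app (L i) :=
        (((Scheme.Modules.pullbackPushforwardAdjunction (𝒰.f i)).homEquiv _ _).symm_apply_apply (ψ i)).symm.trans
          (Adjunction.homEquiv_counit _ _ _ _)
      have h0 : kernel.ι Φ ≫ φ i = 0 := by
        rw [← Limits.Pi.lift_π φ i, ← Category.assoc]
        exact (congrArg (· ≫ _) (kernel.condition Φ)).trans zero_comp
      rw [e, smap_comp, ← pm_nat, ← smap_comp, h0, smap_zero, pm_zero, map_zero]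
    · intro hm
      obtain ⟨V, hV, s, rfl⟩ := ((Scheme.Modules.pullback g).obj E).presheaf.exists_germ_eq m
      let f := 𝒰.f i
      rw [pm_germ f V hV, smap_germ] at hm
      obtain ⟨W₀, hzW₀, a, b, hab⟩ := TopCat.Presheaf.germ_eq (C := AddCommGrpCat.{u}) (L i).presheaf z hV hV _ 0
        (hm.trans (map_zero ((L i).presheaf.germ (f ⁻¹ᵁ V) z hV).hom).symm)
      rw [map_zero] at hab
      let V' : Y.Opens := f ''ᵁ W₀
      have hV'V : V' ≤ V := (Scheme.Hom.image_mono f a.le).trans (f.image_preimage_le V)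
      have hzV' : f z ∈ V' := ⟨z, hzW₀, rfl⟩
      have hzero : ∀ (z₀ : 𝒰.X i) (hz₀ : z₀ ∈ W₀),
          smap (ψ i) z₀ (pm f _ z₀ (((Scheme.Modules.pullback g).obj E).presheaf.germ V (f z₀) (a.le hz₀) s)) = 0 := by
        intro z₀ hz₀
        rw [pm_germ f V (a.le hz₀), smap_germ, ← (L i).presheaf.germ_res_apply a z₀ hz₀, hab, map_zero]
      let s' := ((Scheme.Modules.pullback g).obj E).presheaf.map (homOfLE hV'V).op s
      have hgerm : ∀ (y : Y) (hy : y ∈ V'),
          ((Scheme.Modules.pullback g).obj E).presheaf.germ V' y hy s' =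
            ((Scheme.Modules.pullback g).obj E).presheaf.germ V y (hV'V hy) s := fun y hy =>
        ((Scheme.Modules.pullback g).obj E).presheaf.germ_res_apply _ y hy s
      have hs' : ∀ j, (φ j).app V' s' = 0 := by
        intro j
        refine TopCat.Presheaf.section_ext ⟨(L j).presheaf, (L j).isSheaf⟩ (𝒰.f j ⁻¹ᵁ V') _ 0 fun z' hz' => ?_
        show (L j).presheaf.germ _ z' hz' _ = (L j).presheaf.germ _ z' hz' 0
        rw [map_zero, show φ j = (Scheme.Modules.pullbackPushforwardAdjunction (𝒰.f j)).unit.app _ ≫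
          (Scheme.Modules.pushforward (𝒰.f j)).map (ψ j) from Adjunction.homEquiv_unit _ _ _ _]
        show (L j).presheaf.germ _ z' hz' ((ψ j).app (𝒰.f j ⁻¹ᵁ V')
          (((Scheme.Modules.pullbackPushforwardAdjunction (𝒰.f j)).unit.app _).app V' s')) = 0
        rw [← smap_germ, ← pm_germ (𝒰.f j) V' hz', hgerm]
        obtain ⟨z₀, hz₀, hzz⟩ := id hz'
        obtain ⟨w, hw₀, hw₁⟩ := Scheme.Pullback.exists_preimage_pullback (f := f) (g := 𝒰.f j) z₀ z' hzz
        let pa := pullback.fst f (𝒰.f j)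
        let pb := pullback.snd f (𝒰.f j)
        have hcond : pa ≫ f = pb ≫ 𝒰.f j := pullback.condition
        have hci : pa ≫ g₀ i = (pa ≫ f) ≫ g := by rw [Category.assoc, hg]
        have hcj : pb ≫ g₀ j = (pa ≫ f) ≫ g := by rw [hcond, Category.assoc, hg]
        haveI := hte i
        haveI := hte j
        have hcompat := hx i j _ pa pb hcond
        rw [hxt i, hxt j, pre_map, pre_map, pullPt_mk pa (g₀ i) hci (t i) (hL i),
          pullPt_mk pb (g₀ j) hcj (t j) (hL j)] at hcompat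
        haveI := GrassFlag.epi_quotBC hci (t i)
        haveI := GrassFlag.epi_quotBC hcj (t j)
        obtain ⟨e, he⟩ := (mk_eq_mk_iff _ _ _ _ _).1 hcompat
        have hyz : f z₀ = 𝒰.f j z' := hzz
        let m' := ((Scheme.Modules.pullback g).obj E).presheaf.germ V (𝒰.f j z') (hV'V hz') s
        have h1 : smap (t i) z₀ (tr (hg i) z₀ hyz m') = 0 := by
          have := hzero z₀ hz₀
          rw [show smap (ψ i) z₀ = (smap (t i) z₀).comp (smap (θ E f (hg i)).hom z₀) from
            LinearMap.ext fun m => smap_comp _ _ z₀ m, LinearMap.comp_apply] at this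
          have key : ∀ (y : Y) (hy : f z₀ = y) (hyV : y ∈ V),
              smap (t i) z₀ (tr (hg i) z₀ hy (((Scheme.Modules.pullback g).obj E).presheaf.germ V y hyV s)) = 0 := by
            rintro y rfl hyV
            exact this
          exact key _ hyz _
        have hwz : (pa ≫ f) w = 𝒰.f j z' := by rw [Scheme.Hom.comp_apply, hw₀]; exact hyz
        have hwz' : (pb ≫ 𝒰.f j) w = 𝒰.f j z' := by rw [Scheme.Hom.comp_apply, hw₁]
        have h2 : smap (quotBC hci (t i)) w (tr (rfl : (pa ≫ f) ≫ g = (pa ≫ f) ≫ g) w hwz m') = 0 := by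
          rw [← tr_tr (hg i) hci rfl rfl w hw₀ hyz hwz m', smap_quotBC_tr hci (t i) w hw₀, h1, pmAt_zero]
        have h3 : smap (quotBC hcj (t j)) w (tr (rfl : (pa ≫ f) ≫ g = (pa ≫ f) ≫ g) w hwz m') = 0 := by
          rw [← he, smap_comp, h2, map_zero]
        rw [← tr_tr (hg j) hcj rfl hcond.symm w hw₁ rfl hwz m', smap_quotBC_tr hcj (t j) w hw₁] at h3
        haveI : IsOpenImmersion pb := inferInstance
        have h4 : smap (t j) z' (tr (hg j) z' rfl m') = 0 :=
          pmAt_injective_of_bijective (a := pb) (L j) hw₁ (ringAt_bijective hw₁) (h3.trans (pmAt_zero pb hw₁).symm)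
        rw [show ψ j = (θ E (𝒰.f j) (hg j)).hom ≫ t j from rfl, smap_comp]
        exact h4
      have hΦ : Φ.app V' s' = 0 := by
        let Γ' := Scheme.Modules.toPresheaf Y ⋙ (CategoryTheory.evaluation Y.Opensᵒᵖ Ab.{u}).obj (op V')
        haveI : Limits.PreservesLimitsOfShape (Discrete 𝒰.I₀) (Scheme.Modules.toPresheaf Y) :=
          Limits.PreservesLimitsOfSize.preservesLimitsOfShape
        haveI : Limits.PreservesLimitsOfShape (Discrete 𝒰.I₀)
            ((CategoryTheory.evaluation Y.Opensᵒᵖ Ab.{u}).obj (op V')) :=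
          Limits.evaluation_preservesLimitsOfShape (C := Ab.{u}) _
        haveI : Limits.PreservesLimitsOfShape (Discrete 𝒰.I₀) Γ' := Limits.comp_preservesLimitsOfShape _ _
        refine (ConcreteCategory.bijective_of_isIso (Limits.piComparison Γ' _)).1 ?_
        refine Eq.trans ?_ (map_zero (Limits.piComparison Γ' _).hom).symm
        refine Limits.Concrete.limit_ext _ _ _ fun ⟨j⟩ => ?_
        rw [map_zero]
        have h1 := ConcreteCategory.congr_hom (Limits.piComparison_comp_π Γ' _ j) (Φ.app V' s')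
        refine h1.trans ?_
        have h2 := ConcreteCategory.congr_hom (congrArg (fun f => Γ'.map f) (Limits.Pi.lift_π φ j)) s'
        rw [Γ'.map_comp] at h2
        exact h2.trans (hs' j)
      have hmem : smap Φ (f z) (((Scheme.Modules.pullback g).obj E).presheaf.germ V' (f z) hzV' s') = 0 := by
        rw [smap_germ, hΦ, map_zero]
      rw [hgerm] at hmem
      rw [QuotFunLib.range_smap_kernel_ι, LinearMap.mem_ker]
      exact hmem
  -- the restrictions of the glued quotient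
  have hiso : ∀ i, ∃ e : (Scheme.Modules.pullback (𝒰.f i)).obj (cokernel (kernel.ι Φ)) ≅ L i,
      (Scheme.Modules.pullback (𝒰.f i)).map q ≫ e.hom = ψ i := fun i => by
    haveI := Grass.epi_pullback_map (𝒰.f i) q
    refine exists_iso_of_kerFam_eq _ (ψ i) ?_
    funext z
    ext m
    obtain ⟨m, rfl⟩ := pm_surjective_of_open (𝒰.f i) _ z m
    rw [mem_kerFam, mem_kerFam, smap_pullback_eq_zero_iff, hloc]
  have hQ : FlatMod.IsFinLocFreeOfRank r (cokernel (kernel.ι Φ)) := rank_of_local _ fun y => by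
    obtain ⟨i, z, hz⟩ := 𝒰.exists_eq y
    exact ⟨𝒰.X i, 𝒰.f i, inferInstance, L i, z, hz, hL i, ⟨(hiso i).choose⟩⟩
  refine ⟨mk g q hQ, fun i => ?_, fun p hp => ?_⟩
  · haveI := hte i
    obtain ⟨e, he⟩ := hiso i
    haveI := GrassFlag.epi_quotBC (hg i) q
    rw [pre_map, pullPt_mk (𝒰.f i) g (hg i) q hQ]
    refine Eq.trans ?_ (hxt i).symm
    refine (mk_eq_mk_iff (g₀ i) _ _ _ _).2 ⟨e, ?_⟩
    rw [← cancel_epi (θ E (𝒰.f i) (hg i)).hom, ← Category.assoc, θ_hom_quotBC, he]
  · obtain ⟨Lp, tp, htp, hLp, hpm⟩ := exists_mk p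
    have hp1 : p.1 = g := 𝒰.hom_ext _ _ fun i => by
      have := congrArg Sigma.fst (hp i)
      exact this.trans (hg i).symm
    obtain ⟨gp, N, hN⟩ := p
    dsimp only at hp1
    subst hp1
    rw [hpm]
    haveI := htp
    refine (mk_eq_mk_iff g tp hLp q hQ).2 (exists_iso_of_kerFam_eq tp q ?_)
    funext y
    ext m
    obtain ⟨i, z, rfl⟩ := 𝒰.exists_eq y
    have hpi := hp i
    rw [hpm, pre_map, pullPt_mk (𝒰.f i) g (hg i) tp hLp, hxt i] at hpi
    haveI := hte i
    haveI := GrassFlag.epi_quotBC (hg i) tp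
    obtain ⟨e, he⟩ := (mk_eq_mk_iff (g₀ i) _ _ _ _).1 hpi
    rw [mem_kerFam, mem_kerFam, hloc, show ψ i = (Scheme.Modules.pullback (𝒰.f i)).map tp ≫ e.hom by
      rw [← θ_hom_quotBC (hg i) tp, Category.assoc, he], smap_comp]
    refine Iff.trans (smap_pullback_eq_zero_iff (𝒰.f i) tp z m).symm
      ⟨fun h => by rw [h, map_zero], fun h => smap_iso_injective e z (h.trans (map_zero _).symm)⟩

theorem isSheaf : Presieve.IsSheaf Scheme.zariskiTopology (pre E r) :=
  RepCharts.isSheaf_of_covers _ fun 𝒰 => isSheafFor_cover 𝒰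

end Groth.Agent.H23.GrassExist
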